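import Cfsg.Agent.H364.LieNam
import Cfsg.Agent.H902.AltLie
import Cfsg.Prelude.Def_LieTypeChar
import Cfsg.Agent.Prune
set_option linter.all false
prune_inst 0x7f00000000000000000000000000000000000000000000000000000000000000000000000000000000000000000000000000000000000000000000000000000000000000000000000000000000000000003fffffffffffffffffffffffffffbeffbdffffffff
open scoped Cfsg.Agent.FastGrp

/-!
# Separation of the characteristics by orders (helper284)

From the arithmetic of helper902 (Artin's theorem): a group of Lie type in characteristic `p` and in characteristic `r ≠ p`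
has order 60, 168 or 25920; in particular `p` or `r` is 2. A group of Lie type in odd characteristic `p` is alternating only
for `p = 5` (degree 5) and `p = 3` (degree 6), and never sporadic.
-/

set_option autoImplicit false

namespace Cfsg.Agent.H284.SepOrd

open Cfsg Cfsg.Agent.OrdDiv Finset
open Cfsg.Agent.H902 Cfsg.Agent.H902.Names

universe u

theorem field_pow {F : Type} [Field F] [Fintype F] {p : ℕ} (hp : p.Prime) [CharP F p] :
    ∃ f : ℕ, 1 ≤ f ∧ Fintype.card F = p ^ f := by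
  have : Fact p.Prime := ⟨hp⟩
  obtain ⟨n, -, h⟩ := FiniteField.card F p
  exact ⟨n, n.pos, h⟩

theorem root_pow {q m c p : ℕ} (hp : p.Prime) (hm : m ≠ 0) (hc : ∃ k : ℕ, 1 ≤ k ∧ c = p ^ k) (h : c = q ^ m) :
    ∃ k : ℕ, 1 ≤ k ∧ q = p ^ k := by
  obtain ⟨k, hk, hc⟩ := hc
  have h1 : q ∣ p ^ k := by rw [← hc, h]; exact dvd_pow_self q hm
  obtain ⟨j, -, hj⟩ := (Nat.dvd_prime_pow hp).1 h1
  refine ⟨j, ?_, hj⟩
  by_contra hlt
  have hj0 : j = 0 := by omega
  rw [hj0, pow_zero] at hj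
  rw [hj, one_pow, hc] at h
  exact absurd h (Nat.one_lt_pow (by omega) hp.one_lt).ne'

/-- a group of Lie type in characteristic `p` has an order of one of the shapes, with the same `p` -/
theorem real_of_lie (T : OrderTable.{u}) {S : Type u} [Group S] {p : ℕ} (hp : p.Prime) (h : IsLieTypeChar p S) :
    ∃ X f, Art.Real X p f (Nat.card S) := by
  rcases h with h | h | h | h | h | h | h | h | ⟨rfl, h⟩ | ⟨rfl, h⟩ | ⟨rfl, h⟩
  · obtain ⟨F, _, _, _, n, hn, hn2, ⟨e⟩⟩ := h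
    obtain ⟨f, hf, hF⟩ := field_pow (F := F) hp
    rw [hF] at hn2
    exact ⟨_, f, by rw [Nat.card_congr e.toEquiv]; exact psl_real hp hf hF hn hn2⟩
  · obtain ⟨F, _, _, _, n, hn, hn2, ⟨e⟩⟩ := h
    obtain ⟨f, hf, hF⟩ := field_pow (F := F) hp
    rw [hF] at hn2
    exact ⟨_, f, by rw [Nat.card_congr e.toEquiv]; exact psp_real hp hf hF hn hn2⟩
  · obtain ⟨F, _, _, _, n, q, hF, hn, hn2, ⟨e⟩⟩ := h
    obtain ⟨f, hf, rfl⟩ := root_pow hp (by norm_num) (field_pow (F := F) hp) hF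
    exact ⟨_, f, by rw [Nat.card_congr e.toEquiv]; exact psu_real hp hf hF hn hn2⟩
  · obtain ⟨F, _, _, _, n, hn, ho, ⟨e⟩⟩ := h
    obtain ⟨f, hf, hF⟩ := field_pow (F := F) hp
    rw [hF] at ho
    exact ⟨_, f, by rw [Nat.card_congr e.toEquiv]; exact oodd_real hp hf hF hn ho⟩
  · obtain ⟨F, _, _, _, n, hn, ⟨e⟩⟩ := h
    obtain ⟨f, hf, hF⟩ := field_pow (F := F) hp
    exact ⟨_, f, by rw [Nat.card_congr e.toEquiv]; exact oplus_real hp hf hF hn⟩
  · obtain ⟨F, _, _, _, n, a, b, hn, hab, ⟨e⟩⟩ := h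
    obtain ⟨f, hf, hF⟩ := field_pow (F := F) hp
    exact ⟨_, f, by rw [Nat.card_congr e.toEquiv]; exact ominus_real hp hf hF hn hab⟩
  · obtain ⟨F, _, _, _, h⟩ := h
    obtain ⟨f, hf, hF⟩ := field_pow (F := F) hp
    rcases h with ⟨hq, ⟨e⟩⟩ | ⟨⟨e⟩⟩ | ⟨⟨e⟩⟩ | ⟨⟨e⟩⟩ | ⟨⟨e⟩⟩
    · rw [hF] at hq
      refine ⟨.G2, f, ⟨hp, hf, hq, ?_⟩⟩
      rw [Nat.card_congr e.toEquiv, T.g2 F, hF]
      change 1 * _ = (p ^ f) ^ 6 * (_ * _)
      ring
    · refine ⟨.F4, f, ⟨hp, hf, trivial, ?_⟩⟩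
      rw [Nat.card_congr e.toEquiv, T.f4 F _ hF]
      change 1 * _ = (p ^ f) ^ 24 * (_ * _ * _ * _)
      ring
    · refine ⟨.E6, f, ⟨hp, hf, trivial, ?_⟩⟩
      rw [Nat.card_congr e.toEquiv]
      change Nat.gcd 3 (p ^ f - 1) * _ = (p ^ f) ^ 36 * (_ * _ * _ * _ * _ * _)
      rw [T.e6 F _ hF]
      ring
    · refine ⟨.E7, f, ⟨hp, hf, trivial, ?_⟩⟩
      rw [Nat.card_congr e.toEquiv]
      change Nat.gcd 2 (p ^ f - 1) * _ = (p ^ f) ^ 63 * (_ * _ * _ * _ * _ * _ * _)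
      rw [T.e7 F _ hF]
      ring
    · refine ⟨.E8, f, ⟨hp, hf, trivial, ?_⟩⟩
      rw [Nat.card_congr e.toEquiv, T.e8 F _ hF]
      change 1 * _ = (p ^ f) ^ 120 * (_ * _ * _ * _ * _ * _ * _ * _)
      ring
  · obtain ⟨F, _, _, _, q, hq, ⟨hF, ⟨e⟩⟩ | ⟨hF, ⟨e⟩⟩⟩ := h
    · obtain ⟨f, hf, rfl⟩ := root_pow hp (by norm_num) (field_pow (F := F) hp) hF
      refine ⟨.TE6, f, ⟨hp, hf, trivial, ?_⟩⟩
      rw [Nat.card_congr e.toEquiv]
      change Nat.gcd 3 (p ^ f + 1) * _ = (p ^ f) ^ 36 * (_ * _ * _ * _ * _ * _)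
      rw [T.te6 F _ hq hF]
      ring
    · obtain ⟨f, hf, rfl⟩ := root_pow hp (by norm_num) (field_pow (F := F) hp) hF
      refine ⟨.TD4, f, ⟨hp, hf, trivial, ?_⟩⟩
      rw [Nat.card_congr e.toEquiv, T.td4 F _ hq hF]
      change 1 * _ = (p ^ f) ^ 12 * (_ * _ * _)
      ring
  · obtain ⟨F, _, _, m, hm, hF, ⟨e⟩⟩ := h
    refine ⟨.Sz, 2 * m + 1, ⟨Nat.prime_two, by omega, ⟨rfl, odd_two_mul_add_one m, by omega⟩, ?_⟩⟩
    rw [Nat.card_congr e.toEquiv, T.sz F m hm hF]
    change 1 * _ = (2 ^ (2 * m + 1)) ^ 2 * (_ * _)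
    ring
  · obtain ⟨F, _, _, m, hm, hF, ⟨e⟩⟩ := h
    refine ⟨.TF4, 2 * m + 1, ⟨Nat.prime_two, by omega, ⟨rfl, odd_two_mul_add_one m, by omega⟩, ?_⟩⟩
    rw [Nat.card_congr e.toEquiv, T.tf4 F m hm hF]
    change 1 * _ = (2 ^ (2 * m + 1)) ^ 12 * (_ * _ * _ * _)
    ring
  · obtain ⟨F, _, _, m, hm, hF, ⟨e⟩⟩ := h
    refine ⟨.Ree, 2 * m + 1, ⟨Nat.prime_three, by omega, ⟨rfl, odd_two_mul_add_one m, by omega⟩, ?_⟩⟩
    rw [Nat.card_congr e.toEquiv, T.ree F m hm hF]
    change 1 * _ = (3 ^ (2 * m + 1)) ^ 3 * (_ * _)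
    ring

/-! ### numbers -/

/-- the odd primes up to 71 -/
def oddPrimes : List ℕ := [3, 5, 7, 11, 13, 17, 19, 23, 29, 31, 37, 41, 43, 47, 53, 59, 61, 67, 71]

/-- for all odd primes `p` outside `l`: the cube of the `p`-part of `N` is at most `N` -/
def chk (l : List ℕ) (N : ℕ) : Bool :=
  (oddPrimes.all fun p => l.contains p || (List.range 21).any fun e =>
    decide (N % p ^ (e + 1) ≠ 0) && decide (p ^ (3 * e) ≤ N)) &&
  decide ((2 * oddPrimes.prod) ^ 46 % N = 0)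

theorem oddPrimes_prime : ∀ p ∈ oddPrimes, p.Prime := by decide +kernel

theorem chk_spec {l : List ℕ} {N p : ℕ} (hN : N ≠ 0) (h : chk l N = true) (hp : p.Prime) (hp2 : p ≠ 2) (hl : p ∉ l) :
    (Art.P p N) ^ 3 ≤ N := by
  rw [chk, Bool.and_eq_true, List.all_eq_true, decide_eq_true_eq] at h
  obtain ⟨h1, h2⟩ := h
  by_cases hpN : p ∣ N
  · have h3 : p ∣ 2 * oddPrimes.prod := hp.dvd_of_dvd_pow (hpN.trans (Nat.dvd_of_mod_eq_zero h2))
    have h4 : p ∈ oddPrimes := by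
      rcases (Nat.Prime.dvd_mul hp).1 h3 with h3 | h3
      · exact absurd ((Nat.prime_dvd_prime_iff_eq hp Nat.prime_two).1 h3) hp2
      · obtain ⟨q, hq, hpq⟩ := (Prime.dvd_prod_iff hp.prime).1 h3
        rw [(Nat.prime_dvd_prime_iff_eq hp (oddPrimes_prime q hq)).1 hpq]
        exact hq
    have h5 := h1 p h4
    rw [Bool.or_eq_true, List.any_eq_true] at h5
    rcases h5 with h5 | ⟨e, -, h5⟩
    · exact absurd (List.contains_iff_mem.1 h5) hl
    · rw [Bool.and_eq_true, decide_eq_true_eq, decide_eq_true_eq] at h5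
      obtain ⟨h6, h7⟩ := h5
      have h8 : N.factorization p ≤ e := by
        by_contra hlt
        apply h6
        exact Nat.mod_eq_zero_of_dvd (((hp.pow_dvd_iff_le_factorization hN).2 (by omega)))
      calc (Art.P p N) ^ 3 = p ^ (3 * N.factorization p) := by rw [Art.P, ← pow_mul, mul_comm]
        _ ≤ p ^ (3 * e) := Nat.pow_le_pow_right hp.pos (by omega)
        _ ≤ N := h7
  · rw [Art.P, Nat.factorization_eq_zero_of_not_dvd hpN, pow_zero, one_pow]
    omega

theorem chk_real {l : List ℕ} {X : Art.Sh} {N p f : ℕ} (hR : Art.Real X p f N) (h : chk l N = true) (hp2 : p ≠ 2)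
    (hl : p ∉ l) : False := by
  have h1 := chk_spec hR.M_ne h hR.hp hp2 hl
  have h2 := hR.lt_cube
  omega

theorem chk_60 : chk [5] 60 = true := by decide +kernel
theorem chk_168 : chk [7] 168 = true := by decide +kernel
theorem chk_360 : chk [3] 360 = true := by decide +kernel
theorem chk_20160 : chk [] 20160 = true := by decide +kernel
theorem chk_25920 : chk [3] 25920 = true := by decide +kernel
theorem chk_spor : ∀ x ∈ spor, chk [] x.2 = true := by decide +kernel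

/-! ### separation -/

variable {S : Type u} [Group S] {p r : ℕ}

/-- two characteristics: order 60, 168 or 25920 -/
theorem sep (T : OrderTable.{u}) (hp : p.Prime) (hr : r.Prime) (hne : p ≠ r) (h : IsLieTypeChar p S)
    (h' : IsLieTypeChar r S) : Nat.card S = 60 ∨ Nat.card S = 168 ∨ Nat.card S = 25920 := by
  obtain ⟨X, f, hX⟩ := real_of_lie T hp h
  obtain ⟨Y, g, hY⟩ := real_of_lie T hr h'
  exact Art.cross_char hX hY hne

/-- **Separation of odd characteristics.** -/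
theorem sep_odd (T : OrderTable.{u}) (hp : p.Prime) (hp2 : p ≠ 2) (hr : r.Prime) (hr2 : r ≠ 2)
    (h : IsLieTypeChar p S) (h' : IsLieTypeChar r S) : p = r := by
  by_contra hne
  have hs := sep T hp hr hne h h'
  obtain ⟨X, f, hX⟩ := real_of_lie T hp h
  obtain ⟨Y, g, hY⟩ := real_of_lie T hr h'
  have key : ∀ (a N : ℕ), Nat.card S = N → chk [a] N = true → False := by
    intro a N hN hc
    rw [hN] at hX hY
    by_cases hpa : p = a
    · exact chk_real hY hc hr2 (by rw [List.mem_singleton]; exact fun h => hne (hpa.trans h.symm))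
    · exact chk_real hX hc hp2 (by rw [List.mem_singleton]; exact hpa)
  rcases hs with h | h | h
  · exact key 5 60 h chk_60
  · exact key 7 168 h chk_168
  · exact key 3 25920 h chk_25920

/-- **Alternating groups of Lie type in odd characteristic.** -/
theorem alt (T : OrderTable.{u}) (hp : p.Prime) (hp2 : p ≠ 2) (h : IsLieTypeChar p S) {n : ℕ} (hn : 5 ≤ n)
    (e : S ≃* ↥(alternatingGroup (Fin n))) : (n = 5 ∧ p = 5) ∨ (n = 6 ∧ p = 3) := by
  obtain ⟨X, f, hX⟩ := real_of_lie T hp h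
  have hc := alt_card hn e
  rcases Art.alt_lie hX hn hc.symm with h1 | h1 | h1
  · rw [h1] at hX hc
    left
    refine ⟨Art.alt_inj (M := 60) hn hc.symm (by decide), ?_⟩
    by_contra hne
    exact chk_real hX chk_60 hp2 (by rw [List.mem_singleton]; exact hne)
  · rw [h1] at hX hc
    right
    refine ⟨Art.alt_inj (M := 360) hn hc.symm (by decide), ?_⟩
    by_contra hne
    exact chk_real hX chk_360 hp2 (by rw [List.mem_singleton]; exact hne)
  · rw [h1] at hX
    exact (chk_real hX chk_20160 hp2 (by simp)).elim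

/-- **Sporadic groups and the Tits group are not of Lie type in odd characteristic.** -/
theorem spor_mem (T : OrderTable.{u}) (hp : p.Prime) (hp2 : p ≠ 2) (h : IsLieTypeChar p S) {x : Grp × ℕ}
    (hx : x ∈ spor) (hS : OrdDiv.Real x.1 S) : False := by
  obtain ⟨X, f, hX⟩ := real_of_lie T hp h
  rw [T.spor S x hx hS] at hX
  exact chk_real hX (chk_spor x hx) hp2 (by simp)

theorem spor_grp (T : OrderTable.{u}) (hp : p.Prime) (hp2 : p ≠ 2) (h : IsLieTypeChar p S) (g : Grp)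
    (hg : g ∈ spor.map (fun x => x.1)) (hS : OrdDiv.Real g S) : False := by
  obtain ⟨x, hx, rfl⟩ := List.mem_map.1 hg
  exact spor_mem T hp hp2 h hx hS

end Cfsg.Agent.H284.SepOrd

private theorem dce_b663f6a42d20 : _root_.True := by
  try have : _root_.True := by simp only [_root_.Cfsg.Agent.H284.SepOrd.chk.eq_1]
  exact _root_.True.intro
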