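import Cfsg.Agent.CpAut.TwoAbs
import Cfsg.Agent.S0205
import Cfsg.Agent.Prune
set_option linter.all false
prune_inst 0x7f00000000000000000000000000000000000000000000000000000000000000000000000000000000000000000000000000000000000000000000000000000000000000000000000000000000000000003fffffffffffffffffffffffffffbeffbdffffffff
open scoped Cfsg.Agent.FastGrp

/-!
# Components of groups whose involution centralizers are of characteristic 2 (helper284)

`H` finite, all `C_H(u)`, `u` an involution, of characteristic 2, `A` a component of `H`: `A` is simple and normal,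
`C_H(A) = 1`, and the centralizers of the involutions of `A` are of characteristic 2. This applies to `H = C_X(x)` if the
involution centralizers of `X` are of characteristic 2 and `x` is an involutory automorphism.
-/

set_option autoImplicit false

namespace Cfsg.Agent.H284.CharTwoComp

open Subgroup Cfsg Cfsg.Agent.CpAut.TwoAbs

universe u

/-- all involution centralizers are of characteristic 2 -/
def ACT (H : Type u) [Group H] : Prop := ∀ u : H, orderOf u = 2 → IsOfCharacteristicTwo ↥(centralizer ({u} : Set H))

theorem ACT.congr {H : Type u} [Group H] [Finite H] (h : ACT H) {H' : Type*} [Group H'] [Finite H'] (e : H ≃* H') :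
    ACT H' := by
  intro u hu
  have h1 : orderOf (e.symm u) = 2 := by rw [← hu]; exact e.symm.orderOf_eq u
  have h2 := h _ h1
  have h3 : (centralizer ({e.symm u} : Set H)).map e.toMonoidHom = centralizer ({u} : Set H') := by
    ext y
    rw [mem_centralizer_singleton_iff]
    constructor
    · rintro ⟨z, hz, rfl⟩
      have hz' := mem_centralizer_singleton_iff.1 hz
      have h4 := congrArg e hz'
      rw [map_mul, map_mul, e.apply_symm_apply] at h4
      exact h4
    · intro hy
      refine ⟨e.symm y, ?_, e.apply_symm_apply y⟩
      rw [SetLike.mem_coe, mem_centralizer_singleton_iff, ← map_mul, ← map_mul, hy]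
  exact ct_congr ((e.subgroupMap (centralizer ({e.symm u} : Set H))).trans (MulEquiv.subgroupCongr h3)) h2

theorem of_ct {H : Type u} [Group H] [Finite H] (h : ACT H) {A : Subgroup H} (hA : IsComponent A) :
    IsSimpleGroup ↥A ∧ A.Normal ∧ centralizer (A : Set H) = ⊥ ∧ ACT ↥A := by
  have : Fact (Nat.Prime 2) := ⟨Nat.prime_two⟩
  -- `|A|` is even
  have hev : 2 ∣ Nat.card ↥A := by
    by_contra hne
    have h1 : Odd (Nat.card ↥A) := by rwa [← Nat.not_even_iff_odd, even_iff_two_dvd]
    exact SignalizersComponents.Components.quasisimple_not_isSolvable hA.2 (S0205.result h1)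
  -- no involution centralizes `A`
  have hno : ∀ v ∈ centralizer (A : Set H), orderOf v ≠ 2 := by
    intro v hv hv2
    have hLv : A ≤ centralizer ({v} : Set H) := by
      intro l hl
      rw [mem_centralizer_singleton_iff]
      exact mem_centralizer_iff.1 hv l hl
    exact no_component_of_ct (h v hv2) _ (SignalizersComponents.Components.isComponent_subgroupOf hLv hA)
  have hodd : Odd (Nat.card ↥(centralizer (A : Set H))) := by
    rw [← Nat.not_even_iff_odd]
    intro hev
    obtain ⟨v, hv⟩ := exists_prime_orderOf_dvd_card' 2 hev.two_dvd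
    exact hno v v.2 (by rw [Subgroup.orderOf_coe, hv])
  have hLn : A.Normal := by
    constructor
    intro l hl g
    by_contra hne
    have h1 := SignalizersComponents.Components.isComponent_conj g hA
    have h2 : A.map (MulAut.conj g).toMonoidHom ≠ A := by
      intro h3
      apply hne
      rw [← h3]
      exact ⟨l, hl, rfl⟩
    have h3 := SignalizersComponents.Components.component_le_centralizer_of_ne h1 hA h2
    have h4 : 2 ∣ Nat.card ↥(A.map (MulAut.conj g).toMonoidHom) := by
      rw [card_map_of_injective (MulAut.conj g).injective]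
      exact hev
    have h5 := h4.trans (card_dvd_of_le h3)
    exact (Nat.not_even_iff_odd.2 hodd) (even_iff_two_dvd.2 h5)
  have hC : centralizer (A : Set H) = ⊥ := by
    have h1 : (centralizer (A : Set H)).Normal := normal_centralizer
    obtain ⟨u, hu⟩ := exists_prime_orderOf_dvd_card' 2 hev
    have hu2 : orderOf (u : H) = 2 := by rw [Subgroup.orderOf_coe, hu]
    have hle : centralizer (A : Set H) ≤ centralizer ({(u : H)} : Set H) :=
      centralizer_le (Set.singleton_subset_iff.2 u.2)
    have h2 : ((centralizer (A : Set H)).subgroupOf (centralizer ({(u : H)} : Set H))).Normal := inferInstance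
    have h3 : (Nat.card ↥((centralizer (A : Set H)).subgroupOf (centralizer ({(u : H)} : Set H)))).Coprime 2 := by
      rw [Nat.card_congr (subgroupOfEquivOfLe hle).toEquiv]
      exact hodd.coprime_two_right
    have h4 := Lib.Cores.le_pPrimeCore (p := 2) h2 h3
    rw [core_of_ct (h _ hu2), le_bot_iff, subgroupOf_eq_bot, disjoint_iff, inf_eq_left.2 hle] at h4
    exact h4
  have hZ : center ↥A = ⊥ := by
    rw [eq_bot_iff]
    intro z hz
    have h1 : (z : H) ∈ centralizer (A : Set H) := by
      rw [mem_centralizer_iff]
      intro l hl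
      exact congrArg Subtype.val (mem_center_iff.1 hz ⟨l, hl⟩)
    rw [hC, mem_bot] at h1
    exact Subtype.ext h1
  have hs : IsSimpleGroup ↥A := by
    have h1 := hA.2.2
    exact ((QuotientGroup.quotientMulEquivOfEq hZ).trans QuotientGroup.quotientBot).symm.isSimpleGroup
  refine ⟨hs, hLn, hC, ?_⟩
  intro u hu
  have hu2 : orderOf (u : H) = 2 := by rw [Subgroup.orderOf_coe, hu]
  have h1 := h _ hu2
  have h2 : (A.subgroupOf (centralizer ({(u : H)} : Set H))).Normal := inferInstance
  have h3 := ct_of_normal h1 (A.subgroupOf (centralizer ({(u : H)} : Set H)))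
  refine ct_congr ?_ h3
  -- `A ∩ C_H(u) ≃ C_A(u)`
  exact
    { toFun := fun y => ⟨⟨(y : ↥(centralizer ({(u : H)} : Set H))), y.2⟩, by
        rw [mem_centralizer_singleton_iff]
        exact Subtype.ext (mem_centralizer_singleton_iff.1 (y : ↥(centralizer ({(u : H)} : Set H))).2)⟩
      invFun := fun y => ⟨⟨((y : ↥A) : H), by
        rw [mem_centralizer_singleton_iff]
        exact congrArg Subtype.val (mem_centralizer_singleton_iff.1 y.2)⟩, (y : ↥A).2⟩
      left_inv := fun y => rfl
      right_inv := fun y => rfl
      map_mul' := fun y z => rfl }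

/-- **Components of `C_X(x)`.** -/
theorem of_fix {X : Type u} [Group X] [Finite X] (h : ACT X) {x : MulAut X} (hxx : x * x = 1)
    {A : Subgroup ↥(fixedSubgroup x)} (hA : IsComponent A) :
    IsSimpleGroup ↥A ∧ A.Normal ∧ centralizer (A : Set ↥(fixedSubgroup x)) = ⊥ ∧ ACT ↥A :=
  of_ct (fun u hu => ct_cent_fix hxx u (h u (by rw [Subgroup.orderOf_coe, hu]))) hA

end Cfsg.Agent.H284.CharTwoComp
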