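import Cfsg.Agent.GH.FinalMain_mg
import Cfsg.Agent.GH.BranchC2
import Cfsg.Agent.LFour.ExtAll
import Cfsg.Agent.Prune
set_option linter.all false
prune_inst 0x7f00000000000000000000000000000000000000000000000000000000000000000000000000000000000000000000000000000000000000000000000000000000000000000000000000000000000000003fffffffffffffffffffffffffffbeffbdffffffff

/-!
# The simple groups of sectional 2-rank at most 4, explicit form (helper284)
-/

set_option autoImplicit false

namespace Cfsg.Agent.H284.KFour

open Cfsg

universe u

/-- **The explicit list `GH.Defs.K4`.** -/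
theorem k4 (G : Type u) [Group G] [Finite G] [IsSimpleGroup G] (hna : ¬ IsMulCommutative G)
    (h4 : SectionalPRankLE 2 4 G) : GH.Defs.K4 G :=
  GH.FinalInputs.k4 (GH.FinalStmts.stmts fun _ _ _ _ _ _ _ hF S P e => LFour.ExtAll.conclR hF S P e)
    (GH.FinalMain.gh_of GH.BranchC2.branchC2) G hna h4

end Cfsg.Agent.H284.KFour
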