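import Mathlib
import Cfsg.Agent.H783.RowSpU
import Cfsg.Agent.Classification.DihedralCentral
import Cfsg.Agent.GH.L2AutSyl_m3
import Cfsg.Agent.S0262
import Cfsg.Agent.S0243
import Cfsg.Agent.LieRecognition.FieldSemilinear
import Cfsg.Agent.StandardComponent.AltAut
import Cfsg.Agent.H815.SixTrans
import Cfsg.Agent.SectRankFour.AutAlt
import Cfsg.Agent.H991.QuatQuot
import Cfsg.Agent.GH.L2Aut
import Cfsg.Agent.GH.TOne.LemPDih_m3
import Cfsg.Agent.GH.AltOut
import Cfsg.Agent.H436.TTPsl2
import Cfsg.Agent.S0254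
import Cfsg.Agent.H300.OuterJTwo_m3
import Cfsg.Agent.OddHalf.SpTwoN.RowTwo_m3
import Cfsg.Agent.S0255
import Cfsg.Agent.SmallSimple.PSLTwoPart
import Cfsg.Agent.H291.RowsI
import Cfsg.Agent.EvenType.ChevTwoTits
import Cfsg.Agent.H300.OutONSq_m3
import Cfsg.Agent.H300.OuterJThree
import Cfsg.Agent.H291.PslRow
import Cfsg.Agent.OddHalf.NI.Ex.Plug_m3
import Cfsg.Agent.H246.TitsInner
import Cfsg.Agent.CpAut.TwoFrame
import Cfsg.Agent.H815.OuterHN
import Cfsg.Agent.S2060
import Cfsg.Agent.S2063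
import Cfsg.Agent.S2064
import Cfsg.Agent.S2065
import Cfsg.Agent.S2068
import Cfsg.Agent.S2069
import Cfsg.Agent.S2070
import Cfsg.Agent.S2071
import Cfsg.Agent.S2076
import Cfsg.Agent.S2077
import Cfsg.Agent.S2080
import Cfsg.Agent.S2083
import Cfsg.Agent.S2084
import Cfsg.Agent.S2085
import Cfsg.Agent.H295.A7G
import Cfsg.Agent.H284.FStd
import Cfsg.Agent.H284.AltComp
import Cfsg.Agent.H287.InnON_m3
import Cfsg.Agent.J2Type.Cent5
import Cfsg.Agent.H603.SporElim
import Cfsg.Agent.H815.RankL4Inst_m3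
import Cfsg.Agent.OddHalf.Known
import Cfsg.Agent.H284.CharTwoComp
import Cfsg.Agent.EvenType.ChevTwo
import Cfsg.Agent.S0253
import Cfsg.Agent.H287.FixSuz
import Cfsg.Agent.H287.FixFi22
import Cfsg.Agent.H284.StdRed
import Cfsg.Agent.H284.OddA5
import Cfsg.Agent.FastGrp
import Cfsg.Agent.Prune
set_option linter.all false

section
prune_inst 0x7fb0fcfbaff82ddedfff7e7ffef5dffe3994dfffffdff94bffece9ffafdf230609c5fb8d8de018fe1ef6629400b87853f9ffdeffea6bfc7ffffd5ff45ffbee1ff5f7bd0851978c340fbc0fff6bf0778e7f3fffffffffffffffffffffffffffbeffffffffffff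

-- part: H286/KillL
section
prune_inst 0x200040000800100000000000000000000000000000000000000000000000004000000000040000000000000000000000000000000000000000000000000000000000000000000000000000000000000000000000000000000000000000000000000000000
set_option linter.all false
open scoped Cfsg.Agent.FastGrp

-- part: H500/OddD8
section
/-!
# `Obs` is impossible in groups with dihedral Sylow 2-subgroups (helper500, task 789 of helper286)

* `not_obs_dihedral` : Sylow 2-subgroups of `N` dihedral of order `2 n`, `2 ≤ n` (Klein four groups included);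
* `not_obs` : the case of order 8.
-/

set_option autoImplicit false

namespace Cfsg.Agent.H500.OddD8

open Cfsg.Agent.H286.Obs Cfsg.Agent.Classification.DihedralCentral Cfsg.Agent.Classification.TransferSign

theorem PE.odd {K : Type*} [Group K] {p : ℕ} (hp : Odd p) {v : K} (hv : PE p v) : Odd (orderOf v) := by
  obtain ⟨m, hm⟩ := hv
  exact Odd.of_dvd_nat hp.pow (orderOf_dvd_of_pow_eq_one hm)

/-- the elements of odd order of an `OddClosed` group -/
theorem odd_closure {C : Type*} [Group C] (h : OddClosed C) {S : Set C} (hS : ∀ s ∈ S, Odd (orderOf s)) {w : C}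
    (hw : w ∈ Subgroup.closure S) : Odd (orderOf w) := by
  induction hw using Subgroup.closure_induction with
  | mem s hs => exact hS s hs
  | one => rw [orderOf_one]; exact odd_one
  | mul a b _ _ iha ihb => exact h a b iha ihb
  | inv a _ iha => rwa [orderOf_inv]

theorem not_obs_of_subDihedral {K : Type*} [Group K] [Finite K] {p : ℕ} (hp : Odd p) (x : MulAut K)
    (N : Subgroup K) (hN : ∀ g, x g = g → PE p g → g ∈ N) (hS : SubDihedral ↥N) : ¬ Obs p x := by
  rintro ⟨z, w, hz, hzz, hz1, hww, hw1, hw⟩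
  have hzN : z ∈ N := by
    have h1 : Subgroup.closure (FP p x) ≤ N := by
      rw [Subgroup.closure_le]
      rintro g ⟨hg, hgp⟩
      exact hN g hg hgp
    exact h1 hz
  let z' : ↥N := ⟨z, hzN⟩
  have hz1' : z' ≠ 1 := fun h => hz1 (congrArg Subtype.val h)
  have hzz' : z' * z' = 1 := Subtype.ext hzz
  let C : Subgroup ↥N := Subgroup.centralizer ({z'} : Set ↥N)
  have hC : OddClosed ↥C := by
    refine oddClosed_of_subDihedral _ le_rfl (subDihedral_of_injective C.subtype Subtype.val_injective hS)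
      ⟨z', by rw [Subgroup.mem_centralizer_singleton_iff]⟩ ?_ ?_ ?_
    · intro h
      exact hz1' (congrArg Subtype.val h)
    · exact Subtype.ext hzz'
    · intro g
      have := Subgroup.mem_centralizer_singleton_iff.1 g.2
      exact Subtype.ext this
  let f : ↥C →* K := N.subtype.comp C.subtype
  have hf : Function.Injective f := Subtype.val_injective.comp Subtype.val_injective
  have hsub : {g | g ∈ FP p x ∧ g * z = z * g} ⊆ f '' {c | PE p c} := by
    rintro g ⟨⟨hg, hgp⟩, hgz⟩
    have hgN := hN g hg hgp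
    have hgC : (⟨g, hgN⟩ : ↥N) ∈ C := by
      rw [Subgroup.mem_centralizer_singleton_iff]
      exact Subtype.ext hgz
    refine ⟨⟨⟨g, hgN⟩, hgC⟩, ?_, rfl⟩
    obtain ⟨m, hm⟩ := hgp
    exact ⟨m, hf (by rw [map_pow, map_one]; exact hm)⟩
  have h2 : w ∈ (Subgroup.closure {c : ↥C | PE p c}).map f := by
    rw [MonoidHom.map_closure]
    exact Subgroup.closure_mono hsub hw
  obtain ⟨c, hc, hcw⟩ := h2
  have h3 : Odd (orderOf c) := odd_closure hC (fun s hs => PE.odd hp hs) hc
  have h4 : orderOf w ∣ 2 := orderOf_dvd_of_pow_eq_one (by rw [pow_two, hww])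
  rw [← orderOf_injective f hf c, hcw] at h3
  have h5 : orderOf w = 1 := Nat.eq_one_of_dvd_coprimes (Nat.coprime_two_left.2 h3) h4 dvd_rfl
  exact hw1 (orderOf_eq_one_iff.1 h5)

end Cfsg.Agent.H500.OddD8
end

-- part: H51/OddSeven
section
/-!
# A contradiction in the automorphism groups of `PSL₂(q)` and `A₇` (helper51, task 790)

A finite group `H` with elementary abelian Sylow `p`-subgroup (`p` odd) of order `a ^ 2`, `a ≡ ± 1 mod 8`, has no
homomorphism to `Aut(PSL₂(q))` (`q ≡ 7, 9 mod 16`) or `Aut(A₇)` with image containing the inner automorphisms and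
with kernel of order prime to `p`.
-/

set_option autoImplicit false

namespace Cfsg.Agent.H51.OddSeven

open Matrix Cfsg.Agent.GH Cfsg.Agent.GH.L2Aut Cfsg.Agent.Lib.SL2Mat Cfsg.Agent.Lib.AutSL2 Cfsg.Agent.Lib.AutSL2Out

/-- Moving a `p`-subgroup of the image of `f` into the image of a given Sylow `p`-subgroup. -/
theorem exists_conj {H A : Type*} [Group H] [Finite H] [Group A] {p : ℕ} [Fact p.Prime] (P : Sylow p H)
    (f : H →* A) (S : Subgroup A) (hS : IsPGroup p S) (hle : S ≤ f.range) :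
    ∃ h : H, S ≤ ((P : Subgroup H).map (MulAut.conj h).toMonoidHom).map f := by
  let M : Subgroup H := S.comap f
  obtain ⟨T⟩ : Nonempty (Sylow p M) := inferInstance
  have hT1 : IsPGroup p ((T : Subgroup M).map M.subtype) := T.isPGroup'.map _
  obtain ⟨Q, hQ⟩ := hT1.exists_le_sylow
  obtain ⟨h, hh⟩ := MulAction.exists_smul_eq H P Q
  refine ⟨h, ?_⟩
  -- the image of `T` is `S`
  let g : M →* S := (f.comp M.subtype).codRestrict S (fun x => x.2)
  have hg : Function.Surjective g := by
    rintro ⟨s, hs⟩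
    obtain ⟨x, rfl⟩ := hle hs
    exact ⟨⟨x, hs⟩, rfl⟩
  have hTS : (T : Subgroup M).map g = ⊤ := by
    have h1 : ((T.mapSurjective hg : Sylow p S) : Subgroup S) = (T : Subgroup M).map g := Sylow.coe_mapSurjective hg T
    rw [← h1]
    have : Finite S := Finite.of_surjective g hg
    have h2 : IsPGroup p (⊤ : Subgroup S) := hS.of_equiv Subgroup.topEquiv.symm
    exact (T.mapSurjective hg).3 h2 le_top |>.symm
  intro s hs
  have h3 : (⟨s, hs⟩ : S) ∈ (T : Subgroup M).map g := by rw [hTS]; trivial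
  obtain ⟨t, ht, hts⟩ := h3
  have h4 : f (t : H) = s := congrArg Subtype.val hts
  have h5 : (t : H) ∈ (Q : Subgroup H) := hQ ⟨t, ht, rfl⟩
  rw [← hh] at h5
  exact ⟨t, h5, h4⟩

theorem card_psl_two {F : Type*} [Field F] [Fintype F] (hodd : Odd (Fintype.card F)) :
    2 * Nat.card (Matrix.ProjectiveSpecialLinearGroup (Fin 2) F) =
      Fintype.card F * (Fintype.card F ^ 2 - 1) := by
  have h := Cfsg.Agent.S0243.result (F := F) rfl 2 le_rfl
  have hq : 1 < Fintype.card F := Fintype.one_lt_card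
  set q := Fintype.card F with hq'
  have h2 : Nat.gcd 2 (q - 1) = 2 := by
    refine Nat.gcd_eq_left ?_
    obtain ⟨k, hk⟩ := hodd
    rw [hk]
    exact ⟨k, by omega⟩
  rw [h2, Fin.prod_univ_two] at h
  have e : q ^ 2 - q ^ ((1 : Fin 2) : ℕ) = q * (q - 1) := by
    change q ^ 2 - q ^ 1 = q * (q - 1)
    rw [pow_one, pow_two, Nat.mul_sub, mul_one]
  rw [e, show q ^ ((0 : Fin 2) : ℕ) = 1 from pow_zero q] at h
  have h3 : (q - 1) * (2 * Nat.card (Matrix.ProjectiveSpecialLinearGroup (Fin 2) F)) = (q - 1) * (q * (q ^ 2 - 1)) := by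
    calc _ = 2 * ((q - 1) * Nat.card (Matrix.ProjectiveSpecialLinearGroup (Fin 2) F)) := by ring
      _ = (q ^ 2 - 1) * (q * (q - 1)) := h
      _ = _ := by ring
  exact Nat.eq_of_mul_eq_mul_left (by omega) h3

theorem card_fixed {F : Type*} [Field F] [Finite F] (τ : F ≃+* F) :
    ∃ r : ℕ, Nat.card F = r ^ orderOf τ := by
  have : Finite (F ≃+* F) := Finite.of_injective (fun f : F ≃+* F => (f : F → F)) DFunLike.coe_injective
  have := Fintype.ofFinite (Subgroup.zpowers τ)
  refine ⟨Nat.card (FixedPoints.subfield (Subgroup.zpowers τ) F), ?_⟩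
  rw [← Nat.card_zpowers, Nat.card_eq_fintype_card (α := Subgroup.zpowers τ),
    ← FixedPoints.finrank_eq_card (Subgroup.zpowers τ) F]
  exact Module.natCard_eq_pow_finrank

/-- lifting the exponent -/
theorem sq_dvd {p r : ℕ} (hp : p.Prime) (h : p ∣ (r ^ p) ^ 2 - 1) : p ^ 2 ∣ (r ^ p) ^ 2 - 1 := by
  have : Fact p.Prime := ⟨hp⟩
  rcases Nat.eq_zero_or_pos r with rfl | hr
  · rw [zero_pow hp.ne_zero]; simp
  have h1 : 1 ≤ (r ^ p) ^ 2 := Nat.one_le_pow _ _ (Nat.pow_pos hr)
  have h2 : ((r : ZMod p) ^ p) ^ 2 = 1 := by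
    have h3 : (((r ^ p) ^ 2 - 1 : ℕ) : ZMod p) = 0 := (ZMod.natCast_eq_zero_iff _ _).2 h
    rw [Nat.cast_sub h1] at h3
    push_cast at h3
    exact sub_eq_zero.1 h3
  rw [ZMod.pow_card] at h2
  have h4 : (p : ℤ) ∣ (r : ℤ) ^ 2 - 1 := by
    rw [← ZMod.intCast_zmod_eq_zero_iff_dvd]
    push_cast
    rw [h2, sub_self]
  have h5 : (p : ℤ) ^ 2 ∣ ((r : ℤ) ^ 2) ^ p - 1 ^ p := by
    have h6 := dvd_sub_pow_of_dvd_sub (R := ℤ) (p := p) (a := (r : ℤ) ^ 2) (b := 1) h4 1
    rwa [pow_one] at h6
  have h7 : ((p ^ 2 : ℕ) : ℤ) ∣ (((r ^ p) ^ 2 - 1 : ℕ) : ℤ) := by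
    rw [Nat.cast_sub h1]
    push_cast
    rw [one_pow, ← pow_mul, mul_comm 2 p, pow_mul] at h5
    exact h5
  exact_mod_cast h7

section

variable {F : Type*} [Field F] [Finite F] {L : Type*} [Group L] (R : L2Aut.Rep F L)

/-- An automorphism commuting with the root group. -/
theorem eq_up {x : MulAut L} (hx : ∀ t : F, x (R.π (up t)) = R.π (up t)) :
    ∃ b : F, x = R.gl (Matrix.SpecialLinearGroup.toGL (up b)) := by
  obtain ⟨g, hg⟩ := R.exists_eq x
  set σ := R.fld x with hσ
  have h1 : ∀ t : F, ∃ ε : F, (ε = 1 ∨ ε = -1) ∧ g.1 * (up (σ t)).1 = ε • ((up t).1 * g.1) := by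
    intro t
    have h2 := hx t
    rw [hg, MulAut.mul_apply, R.fa_apply, R.gl_apply, fieldAut_up, R.π_eq_iff] at h2
    have h3 : ∀ (m : Matrix (Fin 2) (Fin 2) F), g.1 * (up (σ t)).1 * g⁻¹.1 = m →
        g.1 * (up (σ t)).1 = m * g.1 := by
      intro m hm
      rw [← hm, Matrix.mul_assoc, ← Units.val_mul, inv_mul_cancel, Units.val_one, Matrix.mul_one]
    rcases h2 with h2 | h2
    · refine ⟨1, Or.inl rfl, ?_⟩
      rw [one_smul]
      exact h3 _ (by rw [← conjGL_val, h2])
    · refine ⟨-1, Or.inr rfl, ?_⟩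
      rw [neg_one_smul, ← Matrix.neg_mul]
      apply h3
      rw [← conjGL_val, h2]
      rfl
  have hdet : g.1 0 0 * g.1 1 1 - g.1 0 1 * g.1 1 0 ≠ 0 := by
    rw [← Matrix.det_fin_two]
    exact (Matrix.GeneralLinearGroup.det g).ne_zero
  have h2 : ∀ t : F, g.1 1 0 = 0 ∧ g.1 0 0 * σ t = t * g.1 1 1 := by
    intro t
    obtain ⟨ε, hε, h⟩ := h1 t
    have e00 := congrFun (congrFun h 0) 0
    have e01 := congrFun (congrFun h 0) 1
    have e10 := congrFun (congrFun h 1) 0
    have e11 := congrFun (congrFun h 1) 1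
    simp only [Matrix.smul_apply, Matrix.mul_apply, Fin.sum_univ_two, up, mk, smul_eq_mul, Matrix.of_apply,
      Matrix.cons_val', Matrix.cons_val_zero, Matrix.cons_val_one, Matrix.cons_val_fin_one, Matrix.empty_val'] at e00 e01 e10 e11
    rcases hε with rfl | rfl
    · by_cases ht : t = 0
      · subst ht
        simp only [map_zero, mul_zero, zero_mul] at e00 e01 e10 e11 ⊢
        obtain ⟨ε, hε, h⟩ := h1 1
        have f00 := congrFun (congrFun h 0) 0
        have f10 := congrFun (congrFun h 1) 0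
        simp only [Matrix.smul_apply, Matrix.mul_apply, Fin.sum_univ_two, up, mk, smul_eq_mul, Matrix.of_apply,
          Matrix.cons_val', Matrix.cons_val_zero, Matrix.cons_val_one, Matrix.cons_val_fin_one, Matrix.empty_val'] at f00 f10
        refine ⟨?_, trivial⟩
        rcases hε with rfl | rfl
        · linear_combination -f00
        · have h5 : (2 : F) * g.1 1 0 = 0 := by linear_combination f10
          exact (mul_eq_zero.1 h5).resolve_left R.two
      · have h5 : t * g.1 1 0 = 0 := by linear_combination -e00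
        refine ⟨(mul_eq_zero.1 h5).resolve_left ht, ?_⟩
        linear_combination e01
    · exfalso
      have h5 : (2 : F) * g.1 1 0 = 0 := by linear_combination e10
      have h6 := (mul_eq_zero.1 h5).resolve_left R.two
      rw [h6] at e00 hdet
      have h7 : (2 : F) * g.1 0 0 = 0 := by linear_combination e00
      have h8 := (mul_eq_zero.1 h7).resolve_left R.two
      rw [h8] at hdet
      exact hdet (by ring)
  have hc := (h2 0).1
  have had : g.1 0 0 = g.1 1 1 := by
    have := (h2 1).2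
    rw [map_one, mul_one, one_mul] at this
    exact this
  have ha : g.1 0 0 ≠ 0 := by
    intro h
    rw [hc, h] at hdet
    exact hdet (by ring)
  have hσ1 : σ = 1 := by
    ext t
    have h3 := (h2 t).2
    rw [← had] at h3
    have h4 : g.1 0 0 * (σ t - t) = 0 := by linear_combination h3
    exact sub_eq_zero.1 ((mul_eq_zero.1 h4).resolve_left ha)
  refine ⟨g.1 0 1 / g.1 0 0, ?_⟩
  rw [hσ1, map_one, mul_one] at hg
  have h5 : R.gl ((Matrix.SpecialLinearGroup.toGL (up (g.1 0 1 / g.1 0 0)))⁻¹ * g) = 1 := by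
    rw [R.gl_eq_one_iff]
    refine ⟨g.1 0 0, ?_⟩
    have h6 : g.1 = (Matrix.SpecialLinearGroup.toGL (up (g.1 0 1 / g.1 0 0))).1 *
        (g.1 0 0 • (1 : Matrix (Fin 2) (Fin 2) F)) := by
      rw [Matrix.mul_smul, Matrix.mul_one]
      change g.1 = g.1 0 0 • !![1, g.1 0 1 / g.1 0 0; 0, 1]
      ext i j
      (revert i j; simp only [hc, had, _root_.Fin.forall_fin_succ, Fin.isValue, _root_.Matrix.smul_apply, _root_.Matrix.of_apply, _root_.Matrix.cons_val', _root_.Matrix.cons_val_fin_one, _root_.smul_eq_mul, _root_.Matrix.cons_val_zero, _root_.Matrix.cons_val_succ, _root_.Fin.succ_zero_eq_one, _root_.IsEmpty.forall_iff, _root_.mul_one, _root_.MulZeroClass.mul_zero, _root_.and_true, _root_.true_and]) <;> (repeat' with_reducible apply And.intro)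
      rw [← had]
      field_simp
    rw [Units.val_mul]
    refine (congrArg (fun m => (Matrix.SpecialLinearGroup.toGL (up (g.1 0 1 / g.1 0 0)))⁻¹.1 * m) h6).trans ?_
    change (Matrix.SpecialLinearGroup.toGL (up (g.1 0 1 / g.1 0 0)))⁻¹.1 * (_ * _) = _
    rw [← Matrix.mul_assoc, ← Units.val_mul, inv_mul_cancel, Units.val_one, Matrix.one_mul]
  rw [map_mul, map_inv, inv_mul_eq_one] at h5
  rw [hg, ← h5]

/-- An abelian group of automorphisms containing the root group has order `q`. -/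
theorem card_of_root (Q : Subgroup (MulAut L)) (hQ : ∀ x ∈ Q, ∀ y ∈ Q, x * y = y * x)
    (hU : ∀ t : F, MulAut.conj (R.π (up t)) ∈ Q) : Nat.card Q = Nat.card F := by
  have h1 : ∀ x ∈ Q, ∀ t : F, x (R.π (up t)) = R.π (up t) := by
    intro x hx t
    apply R.conj_injective
    have h2 := hQ x hx _ (hU t)
    have h3 : MulAut.conj (x (R.π (up t))) = x * MulAut.conj (R.π (up t)) * x⁻¹ := by
      ext y
      simp only [MulAut.conj_apply, MulAut.mul_apply, _root_.MulAut.inv_apply, _root_.map_mul, _root_.MulEquiv.apply_symm_apply, _root_.map_inv]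
    rw [h3, h2, mul_inv_cancel_right]
  have h2 : ∀ b : F, R.gl (Matrix.SpecialLinearGroup.toGL (up b)) ∈ Q := by
    intro b
    rw [← R.conj_π]
    exact hU b
  refine (Nat.card_congr (Equiv.ofBijective (fun b : F => (⟨_, h2 b⟩ : Q)) ⟨?_, ?_⟩)).symm
  · intro b c hbc
    have h3 : R.gl (Matrix.SpecialLinearGroup.toGL (up b)) = R.gl (Matrix.SpecialLinearGroup.toGL (up c)) :=
      (congrArg Subtype.val hbc :)
    rw [← R.conj_π, ← R.conj_π] at h3
    have h4 := R.conj_injective h3
    rw [R.π_eq_iff] at h4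
    rcases h4 with h4 | h4
    · exact up_inj h4
    · exfalso
      have h5 := congrArg (fun y => ent y 0 0) h4
      have h6 : (1 : F) = -1 := h5
      exact R.two (by linear_combination h6)
  · rintro ⟨x, hx⟩
    obtain ⟨b, hb⟩ := eq_up R (h1 x hx)
    exact ⟨b, Subtype.ext hb.symm⟩

include R in
/-- An elementary abelian `p`-group of automorphisms containing (the image of) a Sylow `p`-subgroup, `p` prime to `2 q`,
of square order, does not exist. -/
theorem false_of_cop {p a : ℕ} [hp : Fact p.Prime] (hp2 : p ≠ 2) [Fintype F] (hodd : Odd (Fintype.card F))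
    (hpF : ¬ p ∣ Fintype.card F) (e : L ≃* Matrix.ProjectiveSpecialLinearGroup (Fin 2) F) [Finite L]
    (Q : Subgroup (MulAut L)) (hQp : IsPGroup p Q) (hexp : ∀ x ∈ Q, x ^ p = 1) (S : Sylow p L)
    (hS : ∀ s ∈ S, MulAut.conj s ∈ Q) (ha : Nat.card Q = a ^ 2) (ha1 : 1 < a) : False := by
  -- the Sylow subgroup is cyclic
  have hSc : IsCyclic (S : Subgroup L) := by
    obtain ⟨r, hr⟩ := CharP.exists F
    have hrp : r.Prime := CharP.char_is_prime F r
    have : Fact r.Prime := ⟨hrp⟩
    have hne : p ≠ r := by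
      rintro rfl
      apply hpF
      obtain ⟨n, hn⟩ := FiniteField.card F p
      rw [hn.2]
      exact dvd_pow_self p n.ne_zero
    obtain ⟨T, hT⟩ := Sylow.mapSurjective_surjective R.surj p S
    have hc := S0262.isCyclic_of_isPGroup r p hp2 hne (T : Subgroup (_root_.Matrix.SpecialLinearGroup (Fin 2) F)) T.isPGroup'
    rw [← hT]
    have h1 : ((T.mapSurjective R.surj : Sylow p L) : Subgroup L) =
        (T : Subgroup (_root_.Matrix.SpecialLinearGroup (Fin 2) F)).map R.π := Sylow.coe_mapSurjective R.surj T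
    have h2 : IsCyclic ((T : Subgroup (_root_.Matrix.SpecialLinearGroup (Fin 2) F)).map R.π) :=
      isCyclic_of_surjective (R.π.subgroupMap (T : Subgroup (_root_.Matrix.SpecialLinearGroup (Fin 2) F)))
        (R.π.subgroupMap_surjective _)
    rw [← h1] at h2
    exact h2
  have hSp : Nat.card (S : Subgroup L) ∣ p := by
    rw [← IsCyclic.exponent_eq_card]
    apply Monoid.exponent_dvd_of_forall_pow_eq_one
    rintro ⟨s, hs⟩
    have h1 := hexp _ (hS s hs)
    rw [← map_pow] at h1
    apply Subtype.ext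
    exact R.conj_injective (h1.trans (map_one _).symm)
  -- the inner elements of `Q`
  have hT : Q.comap (MulAut.conj : L →* MulAut L) = S := by
    have h1 : IsPGroup p (Q.comap (MulAut.conj : L →* MulAut L)) := hQp.comap_of_injective _ R.conj_injective
    exact (S.3 h1 hS)
  let φ : Q →* (F ≃+* F) := R.fld.comp Q.subtype
  have hkerS : Nat.card φ.ker ∣ Nat.card (S : Subgroup L) := by
    have h1 : ∀ x : φ.ker, ∃ s ∈ S, MulAut.conj s = (x : Q).1 := by
      rintro ⟨⟨x, hx⟩, hk⟩
      have hk1 : R.fld x = 1 := hk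
      have h2 : R.o1 x = 1 := by
        have h3 : (R.o1 x) ^ p = 1 := by rw [← map_pow, hexp x hx, map_one]
        rcases Int.units_eq_one_or (R.o1 x) with h4 | h4
        · exact h4
        · rw [h4, (hp.1.odd_of_ne_two hp2).neg_one_pow] at h3
          exact absurd h3 (by decide)
      obtain ⟨s, hs⟩ := R.mem_inn_iff.2 ⟨hk1, h2⟩
      refine ⟨s, ?_, hs⟩
      have h4 : s ∈ Q.comap (MulAut.conj : L →* MulAut L) := by
        rw [Subgroup.mem_comap, hs]; exact hx
      rw [hT] at h4
      exact h4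
    let j : (S : Subgroup L) →* MulAut L := (MulAut.conj : L →* MulAut L).comp (S : Subgroup L).subtype
    have hj : Function.Injective j := R.conj_injective.comp Subtype.val_injective
    let k : φ.ker →* MulAut L := Q.subtype.comp φ.ker.subtype
    have hk : Function.Injective k := Subtype.val_injective.comp Subtype.val_injective
    have h5 : k.range ≤ j.range := by
      rintro _ ⟨x, rfl⟩
      obtain ⟨s, hs, hs2⟩ := h1 x
      exact ⟨⟨s, hs⟩, hs2⟩
    rw [Nat.card_congr (MonoidHom.ofInjective hj).toEquiv, Nat.card_congr (MonoidHom.ofInjective hk).toEquiv]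
    exact Subgroup.card_dvd_of_le h5
  have hker : Nat.card φ.ker ∣ p := hkerS.trans hSp
  have hran : Nat.card φ.range ∣ p := by
    have hc : IsCyclic (F ≃+* F) := LieRecognition.FieldSemilinear.isCyclic_ringAut F
    rw [← IsCyclic.exponent_eq_card]
    apply Monoid.exponent_dvd_of_forall_pow_eq_one
    rintro ⟨_, ⟨x, hx⟩, rfl⟩
    apply Subtype.ext
    change (R.fld x) ^ p = 1
    rw [← map_pow, hexp x hx, map_one]
  have hprod : Nat.card φ.ker * Nat.card φ.range = a ^ 2 := by
    rw [← ha, ← Subgroup.card_mul_index φ.ker, Subgroup.index_ker]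
  have hpp := hp.1
  -- both have order `p`
  have hne : ∀ b : ℕ, b ∣ p → b ≠ a ^ 2 := by
    intro b hb h
    rcases (Nat.dvd_prime hpp).1 hb with h1 | h1
    · rw [h1] at h
      nlinarith only [ha1, h]
    · rw [h1] at h
      rw [h] at hpp
      exact Nat.Prime.not_prime_pow (le_refl 2) hpp
  have hk : Nat.card φ.ker = p := by
    rcases (Nat.dvd_prime hpp).1 hker with h1 | h1
    · rw [h1, one_mul] at hprod
      exact absurd hprod (hne _ hran)
    · exact h1
  have hr : Nat.card φ.range = p := by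
    rcases (Nat.dvd_prime hpp).1 hran with h1 | h1
    · rw [h1, mul_one] at hprod
      exact absurd hprod (hne _ hker)
    · exact h1
  have hSp2 : Nat.card (S : Subgroup L) = p := by
    rw [hk] at hkerS
    exact Nat.dvd_antisymm hSp hkerS
  -- a field automorphism of order `p`
  obtain ⟨r, hr⟩ : ∃ r : ℕ, Fintype.card F = r ^ p := by
    have h1 : Nontrivial φ.range := by
      have : Finite φ.range := Nat.finite_of_card_ne_zero (by rw [hr]; exact hpp.ne_zero)
      rw [← Finite.one_lt_card_iff_nontrivial, hr]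
      exact hpp.one_lt
    obtain ⟨⟨σ, x, hx⟩, hσ⟩ := exists_ne (1 : φ.range)
    have h2 : orderOf σ = p := by
      refine orderOf_eq_prime ?_ ?_
      · rw [← hx]
        change (R.fld x.1) ^ p = 1
        rw [← map_pow, hexp x.1 x.2, map_one]
      · intro h
        exact hσ (Subtype.ext h)
    obtain ⟨r, hr⟩ := card_fixed σ
    rw [h2, Nat.card_eq_fintype_card] at hr
    exact ⟨r, hr⟩
  have hL : 2 * Nat.card L = Fintype.card F * (Fintype.card F ^ 2 - 1) := by
    rw [Nat.card_congr e.toEquiv]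
    exact card_psl_two hodd
  have h1 : p ∣ Nat.card L := by
    rw [← hSp2]
    exact Subgroup.card_subgroup_dvd_card _
  have h2 : p ∣ Fintype.card F ^ 2 - 1 := by
    have h3 : p ∣ Fintype.card F * (Fintype.card F ^ 2 - 1) := by
      rw [← hL]
      exact h1.mul_left 2
    exact (hpp.dvd_mul.1 h3).resolve_left hpF
  rw [hr] at h2
  have h3 : p ^ 2 ∣ Nat.card L := by
    have h4 : p ^ 2 ∣ 2 * Nat.card L := by
      rw [hL, hr]
      exact (sq_dvd hpp h2).mul_left _
    refine Nat.Coprime.dvd_of_dvd_mul_left ?_ h4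
    exact (Nat.Coprime.pow_left 2 ((Nat.coprime_primes hpp Nat.prime_two).2 hp2))
  have h4 : p ^ 2 ∣ p := by
    conv_rhs => rw [← hSp2, Sylow.card_eq_multiplicity]
    exact pow_dvd_pow p ((hpp.pow_dvd_iff_le_factorization Nat.card_pos.ne').1 h3)
  have h5 := Nat.le_of_dvd hpp.pos h4
  have := hpp.two_le
  nlinarith only [h5, this]

end

/-- **ODD-7 for `PΓL₂(q)`** -/
theorem false_l2 {H : Type*} [Group H] [Finite H] {p a : ℕ} [Fact p.Prime] (hp : p ≠ 2) (P : Sylow p H)
    (hcomm : ∀ u ∈ P, ∀ v ∈ P, u * v = v * u) (hexp : ∀ u ∈ P, u ^ p = 1) (hc : Nat.card P = a ^ 2)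
    (ha : a % 8 = 1 ∨ a % 8 = 7) (ha1 : 1 < a) {F : Type*} [Field F] [Fintype F]
    (hF : Fintype.card F % 16 = 7 ∨ Fintype.card F % 16 = 9)
    (f : H →* MulAut (Matrix.ProjectiveSpecialLinearGroup (Fin 2) F)) (hinn : ∀ g, MulAut.conj g ∈ f.range)
    (hker : ∀ u ∈ P, f u = 1 → u = 1) : False := by
  have hodd : Odd (Fintype.card F) := by rw [Nat.odd_iff]; omega
  let L := Matrix.ProjectiveSpecialLinearGroup (Fin 2) F
  have : Finite L := inferInstance
  let R : L2Aut.Rep F L := L2Aut.Rep.ofEquiv (L2Aut.two_ne_zero_of_odd hodd) (MulEquiv.refl _)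
  -- a general conjugate of the Sylow subgroup
  have key : ∀ S : Subgroup L, IsPGroup p S → ∃ Q : Subgroup (MulAut L), IsPGroup p Q ∧ (∀ x ∈ Q, x ^ p = 1) ∧
      (∀ x ∈ Q, ∀ y ∈ Q, x * y = y * x) ∧ Nat.card Q = a ^ 2 ∧ ∀ s ∈ S, MulAut.conj s ∈ Q := by
    intro S hS
    obtain ⟨h, hh⟩ := exists_conj P f (S.map MulAut.conj) (hS.map _) (by
      rintro _ ⟨s, -, rfl⟩
      exact hinn s)
    refine ⟨((P : Subgroup H).map (MulAut.conj h).toMonoidHom).map f, (P.isPGroup'.map _).map _, ?_, ?_, ?_,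
      fun s hs => hh ⟨s, hs, rfl⟩⟩
    · rintro _ ⟨_, ⟨u, hu, rfl⟩, rfl⟩
      rw [← map_pow, ← map_pow, hexp u hu, map_one, map_one]
    · rintro _ ⟨_, ⟨u, hu, rfl⟩, rfl⟩ _ ⟨_, ⟨v, hv, rfl⟩, rfl⟩
      rw [← map_mul, ← map_mul, hcomm u hu v hv, map_mul, map_mul]
    · rw [← hc, Subgroup.map_map]
      refine (Nat.card_congr (Equiv.ofBijective
        (((f.comp (MulAut.conj h).toMonoidHom).subgroupMap (P : Subgroup H))) ⟨?_,
          MonoidHom.subgroupMap_surjective _ _⟩)).symm
      rw [injective_iff_map_eq_one]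
      rintro ⟨u, hu⟩ h1
      have h2 : f (h * u * h⁻¹) = 1 := congrArg Subtype.val h1
      have h3 : f u = 1 := by
        rw [map_mul, map_mul, map_inv, mul_inv_eq_one] at h2
        exact mul_eq_left.1 h2
      exact Subtype.ext (hker u hu h3)
  by_cases hpF : p ∣ Fintype.card F
  · obtain ⟨Q, -, -, hQ, hcard, hU⟩ := key
      ((Multiplicative.ofAdd (α := F) |> fun _ => (⊤ : Subgroup (Multiplicative F))).map
        ({ toFun := fun t => R.π (up t.toAdd), map_one' := by
             change R.π (up 0) = 1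
             rw [up_zero, map_one]
           map_mul' := fun s t => by
             change R.π (up (s.toAdd + t.toAdd)) = _
             rw [← up_mul, map_mul] } : Multiplicative F →* L)) (by
        have hpp : p.Prime := Fact.out
        have hch : CharP F p := by
          obtain ⟨r, hr⟩ := CharP.exists F
          have hrp : r.Prime := CharP.char_is_prime F r
          have : Fact r.Prime := ⟨hrp⟩
          obtain ⟨n, hn⟩ := FiniteField.card F r
          rw [hn.2] at hpF
          have := (Nat.prime_dvd_prime_iff_eq hpp hrp).1 (hpp.dvd_of_dvd_pow hpF)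
          rwa [this]
        apply IsPGroup.map
        rintro ⟨x, -⟩
        refine ⟨1, Subtype.ext ?_⟩
        change p ^ 1 • x.toAdd = 0
        rw [pow_one, nsmul_eq_mul, CharP.cast_eq_zero, zero_mul])
    have h1 := card_of_root R Q hQ (fun t => hU _ ⟨Multiplicative.ofAdd t, trivial, rfl⟩)
    rw [hcard, Nat.card_eq_fintype_card] at h1
    rw [← h1] at hF
    have h2 : a ^ 2 % 16 = 1 := by
      have h3 : a % 16 = 1 ∨ a % 16 = 7 ∨ a % 16 = 9 ∨ a % 16 = 15 := by (clear * - ha; omega)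
      rw [Nat.pow_mod]
      rcases h3 with h3 | h3 | h3 | h3 <;> rw [h3]
    omega
  · obtain ⟨S⟩ : Nonempty (Sylow p L) := inferInstance
    obtain ⟨Q, hQp, hexp, -, hcard, hS⟩ := key S S.isPGroup'
    exact false_of_cop R hp hodd hpF (MulEquiv.refl _) Q hQp hexp S hS hcard ha1

end Cfsg.Agent.H51.OddSeven
end

-- part: H286/Kill
section
/-!
# Killing a component with dihedral Sylow 2-subgroups by the row lemma

`C = C_K(x)`, `A ⊴ C` quasisimple, `|Z(A)|` odd, `A / Z(A) ≃ L`, `Out L` abelian, the 2-subgroups of `L` are dihedral or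
cyclic, the Sylow 2-subgroups of `C_C(A)` are cyclic:

* `not_obs` : `Obs p x` fails;
* `false_of_pcase` : `PCase p x` leads to an elementary abelian Sylow `p`-subgroup of `C / O(C_C(A)) ≤ Aut L`.
-/

set_option autoImplicit false
set_option linter.unusedSectionVars false

namespace Cfsg.Agent.H286.Kill

open Subgroup Cfsg Cfsg.Agent.H286.Obs Cfsg.Agent.H286.Row Cfsg.Agent.SectRankFour.OutAb
open scoped commutatorElement

universe u v

/-- `p`-elements centralise the normal cyclic 2-subgroups -/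
theorem comm_of_cyclic {C : Type*} [Group C] [Finite C] {p : ℕ} (hp : Odd p) {D : Subgroup C} (hn : D.Normal)
    (hD : IsCyclic ↥D) (h2 : IsPGroup 2 ↥D) {g : C} (hg : PE p g) : ∀ d ∈ D, g * d = d * g := by
  have : Fact (Nat.Prime 2) := ⟨Nat.prime_two⟩
  obtain ⟨m, hm⟩ := hg
  obtain ⟨k, hk⟩ := IsPGroup.iff_card.1 h2
  have h1 : (MulAut.conjNormal g : MulAut ↥D) ^ p ^ m = 1 := by rw [← map_pow, hm, map_one]
  have h3 : orderOf (MulAut.conjNormal g : MulAut ↥D) ∣ p ^ m := orderOf_dvd_of_pow_eq_one h1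
  have h4 : orderOf (MulAut.conjNormal g : MulAut ↥D) ∣ 2 ^ k := by
    refine (_root_.orderOf_dvd_natCard (MulAut.conjNormal g : MulAut ↥D)).trans ?_
    rw [hD.card_mulAut, hk]
    rcases Nat.eq_zero_or_pos k with rfl | h0
    · simp
    · rw [Nat.totient_prime_pow Nat.prime_two h0]
      simp only [Nat.add_one_sub_one, mul_one]
      exact pow_dvd_pow 2 (Nat.sub_le k 1)
  have h5 : orderOf (MulAut.conjNormal g : MulAut ↥D) = 1 :=
    Nat.eq_one_of_dvd_coprimes (Nat.Coprime.pow m k (Nat.coprime_two_right.2 hp)) h3 h4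
  rw [orderOf_eq_one_iff] at h5
  intro d hd
  have h6 := congrArg (fun t : MulAut ↥D => ((t ⟨d, hd⟩ : ↥D) : C)) h5
  simp only [MulAut.conjNormal_apply, MulAut.one_apply] at h6
  exact mul_inv_eq_iff_eq_mul.1 h6

theorem nil_of_comm {Q : Type*} [Group Q] (h : ∀ a b : Q, ⁅a, b⁆ ∈ center Q) : Group.IsNilpotent Q := by
  refine Group.of_quotient_center_nilpotent ?_
  have h4 : ∀ a b : Q ⧸ center Q, a * b = b * a := by
    intro a b
    obtain ⟨a, rfl⟩ := QuotientGroup.mk_surjective a
    obtain ⟨b, rfl⟩ := QuotientGroup.mk_surjective b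
    rw [← QuotientGroup.mk_mul, ← QuotientGroup.mk_mul, QuotientGroup.eq]
    have h5 : (a * b)⁻¹ * (b * a) = ⁅b⁻¹, a⁻¹⁆ := by rw [commutatorElement_def]; group
    rw [h5]
    exact h _ _
  let _ : CommGroup (Q ⧸ center Q) := { (inferInstance : Group (Q ⧸ center Q)) with mul_comm := h4 }
  infer_instance

/-- the `p`-elements generate a `p`-group if the commutators lie in `J`, and `⁅E, J⁆` in a normal cyclic 2-subgroup -/
theorem gen_pgroup {E : Type*} [Group E] [Finite E] {p : ℕ} [Fact p.Prime] (hp : Odd p) {D J : Subgroup E}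
    (hn : D.Normal) (hD : IsCyclic ↥D) (h2 : IsPGroup 2 ↥D) (hab : ∀ a b : E, ⁅a, b⁆ ∈ J)
    (hJ : ∀ a : E, ∀ j ∈ J, ⁅a, j⁆ ∈ D) : IsPGroup p ↥(_root_.Subgroup.closure {g : E | PE p g}) := by
  obtain ⟨N, hN⟩ : ∃ N, N = _root_.Subgroup.closure {g : E | PE p g} := ⟨_, rfl⟩
  rw [← hN]
  have hc : ∀ g ∈ N, ∀ d ∈ D, g * d = d * g := by
    intro g hg d hd
    rw [hN] at hg
    have h1 := commute_closure (S := {g : E | PE p g}) (T := {d}) (fun s hs t ht => by
      rw [Set.mem_singleton_iff.1 ht]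
      exact comm_of_cyclic hp hn hD h2 hs d hd) hg (Subgroup.subset_closure rfl : d ∈ closure {d})
    exact h1
  have hnil : Group.IsNilpotent ↥N := by
    -- the elements of `J` are central modulo the center
    have hcen : ∀ j : ↥N, (j : E) ∈ J → (QuotientGroup.mk j : ↥N ⧸ center ↥N) ∈ center (↥N ⧸ center ↥N) := by
      intro j hj
      rw [mem_center_iff]
      intro a
      obtain ⟨a, rfl⟩ := QuotientGroup.mk_surjective a
      rw [← QuotientGroup.mk_mul, ← QuotientGroup.mk_mul, QuotientGroup.eq, mem_center_iff]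
      intro g
      have h5 : ((a * j)⁻¹ * (j * a) : ↥N) = ⁅j⁻¹, a⁻¹⁆ := by rw [commutatorElement_def]; group
      rw [h5]
      apply Subtype.ext
      refine hc g g.2 _ ?_
      have h6 := hJ ((a⁻¹ : ↥N) : E) ((j⁻¹ : ↥N) : E) (by rw [coe_inv]; exact inv_mem hj)
      have h7 : ((⁅j⁻¹, a⁻¹⁆ : ↥N) : E) = ⁅((a⁻¹ : ↥N) : E), ((j⁻¹ : ↥N) : E)⁆⁻¹ := by
        rw [commutatorElement_inv]
        rfl
      rw [h7]
      exact inv_mem h6
    have h3 : Group.IsNilpotent (↥N ⧸ center ↥N) := by
      refine nil_of_comm fun a b => ?_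
      obtain ⟨a, rfl⟩ := QuotientGroup.mk_surjective a
      obtain ⟨b, rfl⟩ := QuotientGroup.mk_surjective b
      exact hcen ⁅a, b⁆ (hab (a : E) (b : E))
    exact Group.of_quotient_center_nilpotent h3
  have P : Sylow p ↥N := default
  have hP : (P : Subgroup ↥N).Normal := (Group.isNilpotent_of_finite_tfae.out 0 3 rfl rfl).mp hnil p inferInstance P
  have hall : ∀ g : ↥N, PE p (g : E) → g ∈ (P : Subgroup ↥N) := by
    rintro g ⟨m, hm⟩
    have h3 : g ^ p ^ m = 1 := Subtype.ext (by rw [coe_pow, hm, coe_one])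
    have h4 : IsPGroup p ↥(zpowers g) := by
      obtain ⟨j, -, hj⟩ := (Nat.dvd_prime_pow Fact.out).1 (orderOf_dvd_of_pow_eq_one h3)
      exact IsPGroup.of_card (n := j) (by rw [Nat.card_zpowers, hj])
    obtain ⟨Q, hQ⟩ := h4.exists_le_sylow
    have := Sylow.unique_of_normal P hP
    rw [Subsingleton.elim Q P] at hQ
    exact hQ (mem_zpowers g)
  have h3 : N ≤ (P : Subgroup ↥N).map N.subtype := by
    conv_lhs => rw [hN]
    rw [closure_le]
    intro g hg
    have hgN : g ∈ N := by rw [hN]; exact _root_.Subgroup.subset_closure hg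
    exact ⟨⟨g, hgN⟩, hall _ hg, rfl⟩
  exact (P.isPGroup'.map N.subtype).to_le h3

/-- the 2-subgroups of the group generated by the `p`-elements -/
theorem two_le {C : Type*} [Group C] [Finite C] {p : ℕ} [Fact p.Prime] (hp : Odd p) {B S J : Subgroup C}
    (hB : B.Normal) (hS : IsCyclic ↥S) (h2 : IsPGroup 2 ↥S) (hBS : (B ⊔ S).Normal) (hab : ∀ a b : C, ⁅a, b⁆ ∈ J)
    (hJ : ∀ a : C, ∀ j ∈ J, ⁅a, j⁆ ∈ B ⊔ S) {T : Subgroup C} (hT : IsPGroup 2 ↥T) (hTN : T ≤ _root_.Subgroup.closure {g : C | PE p g}) : T ≤ B := by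
  have : Fact (Nat.Prime 2) := ⟨Nat.prime_two⟩
  obtain ⟨π, hπ⟩ : ∃ π, π = QuotientGroup.mk' B := ⟨_, rfl⟩
  have hsur : Function.Surjective π := by rw [hπ]; exact QuotientGroup.mk'_surjective B
  have hker : ∀ g, π g = 1 ↔ g ∈ B := by
    intro g
    rw [hπ]
    exact QuotientGroup.eq_one_iff g
  have hD : (S.map π) = (B ⊔ S).map π := by
    rw [Subgroup.map_sup]
    have h1 : B.map π = ⊥ := by
      rw [eq_bot_iff]
      rintro _ ⟨b, hb, rfl⟩
      exact (hker b).2 hb
    rw [h1, bot_sup_eq]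
  have hDn : (S.map π).Normal := by
    rw [hD]
    exact hBS.map π hsur
  have hDc : IsCyclic ↥(S.map π) := by
    refine isCyclic_of_surjective (π.subgroupMap S) ?_
    exact π.subgroupMap_surjective S
  have h3 := gen_pgroup hp (J := J.map π) hDn hDc (h2.map π) (fun a b => by
    obtain ⟨a, rfl⟩ := hsur a
    obtain ⟨b, rfl⟩ := hsur b
    rw [← map_commutatorElement]
    exact Subgroup.mem_map_of_mem π (hab a b)) (fun a j hj => by
    obtain ⟨a, rfl⟩ := hsur a
    obtain ⟨j, hj, rfl⟩ := hj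
    rw [← map_commutatorElement, hD]
    exact Subgroup.mem_map_of_mem π (hJ a j hj))
  have h4 : (_root_.Subgroup.closure {g : C | PE p g}).map π ≤ _root_.Subgroup.closure {g : C ⧸ B | PE p g} := by
    rw [MonoidHom.map_closure, closure_le]
    rintro _ ⟨g, hg, rfl⟩
    exact _root_.Subgroup.subset_closure (hg.map π)
  intro t ht
  rw [← hker]
  obtain ⟨m, hm⟩ := h3 ⟨π t, h4 (Subgroup.mem_map_of_mem π (hTN ht))⟩
  obtain ⟨k, hk⟩ := hT ⟨t, ht⟩
  have e1 : (π t) ^ p ^ m = 1 := congrArg Subtype.val hm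
  have e2 : (π t) ^ 2 ^ k = 1 := by
    rw [← map_pow]
    have : t ^ 2 ^ k = 1 := congrArg Subtype.val hk
    rw [this, map_one]
  have h5 : orderOf (π t) = 1 :=
    Nat.eq_one_of_dvd_coprimes (Nat.Coprime.pow m k (Nat.coprime_two_right.2 hp)) (orderOf_dvd_of_pow_eq_one e1)
      (orderOf_dvd_of_pow_eq_one e2)
  exact orderOf_eq_one_iff.1 h5

open Cfsg.Agent.H300.SporBase (barHom barHom_apply eq_one_of_bar)
open Cfsg.Agent.Classification.DihedralCentral

/-- a normal subgroup with cyclic Sylow 2-subgroups -/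
theorem exists_OS {C : Type*} [Group C] [Finite C] {D : Subgroup C} (hD : D.Normal)
    (hcyc : ∀ R : Sylow 2 ↥D, IsCyclic ↥(R : Subgroup ↥D)) :
    ∃ O S : Subgroup C, O.Normal ∧ Odd (Nat.card ↥O) ∧ IsCyclic ↥S ∧ IsPGroup 2 ↥S ∧ O ⊔ S = D := by
  have : Fact (Nat.Prime 2) := ⟨Nat.prime_two⟩
  have R : Sylow 2 ↥D := default
  have hR := hcyc R
  have hch : (oddCore ↥D).Characteristic := Cfsg.Agent.Lib.Cores.pPrimeCore_characteristic 2
  have hodd : Odd (Nat.card ↥(oddCore ↥D)) := Nat.coprime_two_right.1 (Cfsg.Agent.Lib.Cores.pPrimeCore_coprime 2)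
  have htop : oddCore ↥D ⊔ (R : Subgroup ↥D) = ⊤ := by
    by_cases hev : 2 ∣ Nat.card ↥D
    · have hmf : (Nat.card ↥D).minFac = 2 := (Nat.minFac_eq_two_iff _).2 hev
      have h1 := IsCyclic.isComplement' (P := R) hmf hR
      have h2 := h1.sup_eq_top
      rw [eq_top_iff, ← h2]
      refine sup_le_sup_right ?_ _
      refine Cfsg.Agent.Lib.Cores.le_pPrimeCore inferInstance ?_
      have h3 := h1.card_mul
      have h4 := R.not_dvd_index
      have h5 : (R : Subgroup ↥D).index = Nat.card ↥(MonoidHom.transferSylow R (hR.normalizer_le_centralizer hmf)).ker :=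
        h1.index_eq_card
      rw [h5] at h4
      exact ((Nat.Prime.coprime_iff_not_dvd Nat.prime_two).2 h4).symm
    · rw [eq_top_iff]
      refine le_trans ?_ le_sup_left
      refine Cfsg.Agent.Lib.Cores.le_pPrimeCore inferInstance ?_
      rw [Nat.card_congr (Subgroup.topEquiv (G := ↥D)).toEquiv]
      exact ((Nat.Prime.coprime_iff_not_dvd Nat.prime_two).2 hev).symm
  refine ⟨(oddCore ↥D).map D.subtype, (R : Subgroup ↥D).map D.subtype, ConjAct.normal_of_characteristic_of_normal,
    ?_, ?_, R.isPGroup'.map _, ?_⟩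
  · rwa [Nat.card_congr ((oddCore ↥D).equivMapOfInjective D.subtype (Subgroup.subtype_injective D)).toEquiv.symm]
  · exact isCyclic_of_surjective _ (((R : Subgroup ↥D).equivMapOfInjective D.subtype
      (Subgroup.subtype_injective D)).surjective)
  · rw [← Subgroup.map_sup, htop, ← MonoidHom.range_eq_map, Subgroup.range_subtype]

theorem subDihedral_of {N L : Type*} [Group N] [Group L] (hL : SubDihedral L)
    (h : ∀ T : Subgroup N, IsPGroup 2 ↥T → ∃ g : ↥T →* L, Function.Injective g) : SubDihedral N := by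
  intro T hT
  obtain ⟨g, hg⟩ := h T hT
  obtain ⟨R, hR, hRT⟩ := subDihedral_of_injective g hg hL ⊤
    (hT.of_injective (Subgroup.topEquiv (G := ↥T)).toMonoidHom (Subgroup.topEquiv (G := ↥T)).injective)
  refine ⟨R.map T.subtype, isCyclic_of_surjective _ ((R.equivMapOfInjective T.subtype
    (Subgroup.subtype_injective T)).surjective), ?_⟩
  intro x hx hxR
  have h1 : (⟨x, hx⟩ : ↥T) ∉ R := fun h0 => hxR ⟨_, h0, rfl⟩
  obtain ⟨h2, h3⟩ := hRT ⟨x, hx⟩ (mem_top _) h1
  refine ⟨congrArg Subtype.val h2, fun y hy hyR => ?_⟩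
  have h4 : (⟨y, hy⟩ : ↥T) ∉ R := fun h0 => hyR ⟨_, h0, rfl⟩
  exact ⟨_, h3 ⟨y, hy⟩ (mem_top _) h4, rfl⟩

section Main

variable {C : Type u} [Group C] [Finite C] {A : Subgroup C} (hn : A.Normal) (hA : IsQuasisimple ↥A) {L : Type v}
  [Group L] (e : ↥A ⧸ center ↥A ≃* L)

include hA in
theorem mem_ker_bar {g : C} : barHom hn e g = 1 ↔ g ∈ centralizer (A : Set C) := by
  constructor
  · intro h
    have h1 : (MulAut.conjNormal g : MulAut ↥A) = 1 := by
      refine eq_one_of_bar hA.1.commutator_eq_top _ ?_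
      intro a
      have h2 : barHom hn e g (e (QuotientGroup.mk a)) = e (QuotientGroup.mk a) := by
        rw [h, MulAut.one_apply]
      rw [barHom_apply] at h2
      exact QuotientGroup.eq.1 (e.injective h2).symm
    rw [mem_centralizer_iff]
    intro a ha
    have h2 := congrArg (fun t : MulAut ↥A => ((t ⟨a, ha⟩ : ↥A) : C)) h1
    simp only [MulAut.conjNormal_apply, MulAut.one_apply] at h2
    exact (mul_inv_eq_iff_eq_mul.1 h2).symm
  · intro h
    ext l
    obtain ⟨q, rfl⟩ := e.surjective l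
    obtain ⟨a, rfl⟩ := QuotientGroup.mk_surjective q
    rw [barHom_apply, MulAut.one_apply]
    congr 2
    apply Subtype.ext
    rw [MulAut.conjNormal_apply, ← mem_centralizer_iff.1 h (a : C) a.2, mul_inv_cancel_right]

theorem bar_coe (a : ↥A) : barHom hn e (a : C) = MulAut.conj (e (QuotientGroup.mk a)) := by
  ext l
  obtain ⟨q, rfl⟩ := e.surjective l
  obtain ⟨b, rfl⟩ := QuotientGroup.mk_surjective q
  rw [barHom_apply, MulAut.conj_apply, ← map_inv, ← map_mul, ← map_mul]
  congr 1

theorem conj_mem_range (l : L) : MulAut.conj l ∈ (barHom hn e).range := by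
  obtain ⟨q, rfl⟩ := e.surjective l
  obtain ⟨a, rfl⟩ := QuotientGroup.mk_surjective q
  exact ⟨(a : C), bar_coe hn e a⟩

include hn hA e in
theorem comm_mem (hOut : OutComm L) (a b : C) : ⁅a, b⁆ ∈ A ⊔ centralizer (A : Set C) := by
  obtain ⟨k, hk⟩ := hOut (barHom hn e a) (barHom hn e b)
  obtain ⟨q, rfl⟩ := e.surjective k
  obtain ⟨a0, rfl⟩ := QuotientGroup.mk_surjective q
  have h1 : barHom hn e ⁅a, b⁆ = MulAut.conj (e (QuotientGroup.mk a0)) := by
    rw [map_commutatorElement]
    ext l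
    rw [commutatorElement_def, hk, MulAut.conj_apply]
  have h2 : barHom hn e ((a0 : C)⁻¹ * ⁅a, b⁆) = 1 := by
    rw [map_mul, map_inv, bar_coe, h1, inv_mul_cancel]
  rw [mem_ker_bar hn hA] at h2
  have h3 : ⁅a, b⁆ = (a0 : C) * ((a0 : C)⁻¹ * ⁅a, b⁆) := by group
  rw [h3]
  exact mul_mem (le_sup_left (b := centralizer (A : Set C)) a0.2) (le_sup_right (a := A) h2)

variable {B : Subgroup C} (hB : B.Normal) (hBA : B ≤ centralizer (A : Set C))
  (hBc : ∀ c : C, ∀ j ∈ centralizer (A : Set C), ⁅c, j⁆ ∈ B) (hBs : ∀ S : Sylow 2 ↥B, IsCyclic ↥(S : Subgroup ↥B))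
  (hZ : Odd (Nat.card ↥(center ↥A))) (hcL : center L = ⊥) (hOut : OutComm L) (hL : SubDihedral L)

include hn hA e hB hBA hBc hBs hZ hcL hOut hL

/-- The group generated by the `p`-elements has dihedral 2-subgroups. -/
theorem subDihedral_gen {p : ℕ} [Fact p.Prime] (hp : Odd p) : SubDihedral ↥(_root_.Subgroup.closure {g : C | PE p g}) := by
  have : Fact (Nat.Prime 2) := ⟨Nat.prime_two⟩
  obtain ⟨O, S, hO, hOodd, hS, hS2, hOS⟩ := exists_OS hB hBs
  have hBn : (A ⊔ O).Normal := Subgroup.sup_normal A O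
  have hBS : A ⊔ O ⊔ S = A ⊔ B := by rw [sup_assoc, hOS]
  have hconj : Function.Injective (MulAut.conj : L →* MulAut L) := by
    rw [injective_iff_map_eq_one]
    intro l hl
    have h1 : l ∈ center L := by
      rw [mem_center_iff]
      intro g
      have h2 := congrArg (fun t : MulAut L => t g) hl
      simp only [MulAut.conj_apply, MulAut.one_apply] at h2
      exact (mul_inv_eq_iff_eq_mul.1 h2).symm
    rw [hcL, mem_bot] at h1
    exact h1
  refine subDihedral_of hL fun T hT => ?_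
  -- `T ≤ A O`
  have hT2 : IsPGroup 2 ↥(T.map (_root_.Subgroup.closure {g : C | PE p g}).subtype) := hT.map _
  have hTB : T.map (closure {g : C | PE p g}).subtype ≤ A ⊔ O := by
    refine two_le (J := A ⊔ centralizer (A : Set C)) hp hBn hS hS2 ?_ (comm_mem hn hA e hOut) ?_ hT2 ?_
    · rw [hBS]; exact Subgroup.sup_normal A _
    · intro c j hj
      rw [hBS]
      have hA' : A ≤ A ⊔ B := le_sup_left
      have hABn : (A ⊔ B).Normal := Subgroup.sup_normal A B
      obtain ⟨a, ha, j', hj', rfl⟩ := Subgroup.mem_sup_of_normal_left.1 hj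
      have h1 : ⁅c, a * j'⁆ = ⁅c, a⁆ * (a * ⁅c, j'⁆ * a⁻¹) := by
        rw [commutatorElement_def, commutatorElement_def, commutatorElement_def]; group
      rw [h1]
      refine mul_mem (hA' ?_) (hABn.conj_mem _ (le_sup_right (a := A) (hBc c j' hj')) a)
      rw [commutatorElement_def]
      exact mul_mem (hn.conj_mem a ha c) (inv_mem ha)
    · rintro _ ⟨t, -, rfl⟩
      exact t.2
  obtain ⟨f, hf⟩ : ∃ f : ↥T →* MulAut L, ∀ t : ↥T, f t = barHom hn e ((t : ↥(_root_.Subgroup.closure {g : C | PE p g})) : C) :=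
    ⟨((barHom hn e).comp (closure {g : C | PE p g}).subtype).comp T.subtype, fun _ => rfl⟩
  have hmem : ∀ t : ↥T, ∃ a ∈ A, ∃ o ∈ O, ((t : ↥(closure {g : C | PE p g})) : C) = a * o := by
    intro t
    have h1 : ((t : ↥(closure {g : C | PE p g})) : C) ∈ A ⊔ O := hTB ⟨_, t.2, rfl⟩
    obtain ⟨a, ha, o, ho, h2⟩ := Subgroup.mem_sup_of_normal_right.1 h1
    exact ⟨a, ha, o, ho, h2.symm⟩
  have hOA : ∀ o ∈ O, o ∈ centralizer (A : Set C) := fun o ho => hBA (by
    rw [← hOS]; exact le_sup_left (b := S) ho)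
  have hO1 : ∀ o ∈ O, barHom hn e o = 1 := fun o ho => (mem_ker_bar hn hA e).2 (hOA o ho)
  have hrange : ∀ t : ↥T, f t ∈ (MulAut.conj : L →* MulAut L).range := by
    intro t
    obtain ⟨a, ha, o, ho, h2⟩ := hmem t
    rw [hf, h2, map_mul, hO1 o ho, mul_one]
    exact ⟨_, (bar_coe hn e ⟨a, ha⟩).symm⟩
  have hfi : Function.Injective f := by
    rw [injective_iff_map_eq_one]
    intro t ht
    rw [hf, mem_ker_bar hn hA] at ht
    obtain ⟨a, ha, o, ho, h2⟩ := hmem t
    have hoD : o ∈ centralizer (A : Set C) := hOA o ho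
    have haD : a ∈ centralizer (A : Set C) := by
      have h3 : a = ((t : ↥(closure {g : C | PE p g})) : C) * o⁻¹ := by rw [h2]; group
      rw [h3]
      exact mul_mem ht (inv_mem hoD)
    have haZ : a ∈ (center ↥A).map A.subtype := by
      refine ⟨⟨a, ha⟩, ?_, rfl⟩
      rw [SetLike.mem_coe, mem_center_iff]
      intro g
      exact Subtype.ext (mem_centralizer_iff.1 haD g g.2)
    have hZn : ((center ↥A).map A.subtype).Normal := by
      have := hn
      exact ConjAct.normal_of_characteristic_of_normal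
    have h4 : Odd (Nat.card ↥((center ↥A).map A.subtype ⊔ O)) := by
      refine Odd.of_dvd_nat ?_ (Cfsg.Agent.Lib.Cores.card_sup_dvd _ _ hZn)
      refine Odd.mul ?_ hOodd
      rwa [Nat.card_congr ((center ↥A).equivMapOfInjective A.subtype (Subgroup.subtype_injective A)).toEquiv.symm]
    have h5 : ((t : ↥(_root_.Subgroup.closure {g : C | PE p g})) : C) ∈ (center ↥A).map A.subtype ⊔ O := by
      rw [h2]
      exact mul_mem (le_sup_left (b := O) haZ) (le_sup_right (a := (center ↥A).map A.subtype) ho)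
    have h6 : orderOf ((t : ↥(closure {g : C | PE p g})) : C) ∣ Nat.card ↥((center ↥A).map A.subtype ⊔ O) :=
      Subgroup.orderOf_dvd_natCard _ h5
    obtain ⟨k, hk⟩ := hT t
    have h7 : orderOf ((t : ↥(closure {g : C | PE p g})) : C) ∣ 2 ^ k := orderOf_dvd_of_pow_eq_one (by
      have := congrArg (fun s : ↥T => ((s : ↥(closure {g : C | PE p g})) : C)) hk
      exact this)
    have h8 : orderOf ((t : ↥(closure {g : C | PE p g})) : C) = 1 :=
      Nat.eq_one_of_dvd_coprimes ((Nat.coprime_two_right.2 h4).pow_right k) h6 h7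
    rw [orderOf_eq_one_iff] at h8
    exact Subtype.ext (Subtype.ext h8)
  refine ⟨(MonoidHom.ofInjective hconj).symm.toMonoidHom.comp (f.codRestrict _ hrange), ?_⟩
  refine (MonoidHom.ofInjective hconj).symm.injective.comp ?_
  intro s t hst
  exact hfi (congrArg Subtype.val hst)

end Main

/-- There is no group between `L` and `Aut L` with an elementary abelian Sylow `p`-subgroup of order `a ^ 2`,
`a ≡ ± 1 mod 8`. -/
def NoP (p : ℕ) (L : Type v) [Group L] : Prop :=
  ∀ (H : Type u) [Group H] [Finite H] (P : Sylow p H) (a : ℕ), (∀ y ∈ P, ∀ z ∈ P, y * z = z * y) →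
    (∀ y ∈ P, y ^ p = 1) → Nat.card P = a ^ 2 → (a % 8 = 1 ∨ a % 8 = 7) → 1 < a →
    ∀ f : H →* MulAut L, (∀ g, MulAut.conj g ∈ f.range) → (∀ y ∈ P, f y = 1 → y = 1) → False

section K

variable {K : Type u} [Group K] [Finite K] {p : ℕ} [Fact p.Prime] {x : MulAut K}
  {A : Subgroup ↥(fixedSubgroup x)} (hn : A.Normal) (hA : IsQuasisimple ↥A) {L : Type v}
  [Group L] (e : ↥A ⧸ center ↥A ≃* L) {B : Subgroup ↥(fixedSubgroup x)} (hB : B.Normal)
  (hBA : B ≤ centralizer (A : Set ↥(fixedSubgroup x)))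
  (hBc : ∀ c : ↥(fixedSubgroup x), ∀ j ∈ centralizer (A : Set ↥(fixedSubgroup x)), ⁅c, j⁆ ∈ B)
  (hBs : ∀ S : Sylow 2 ↥B, IsCyclic ↥(S : Subgroup ↥B))

include hn hA e hB hBA hBc hBs

/-- **`Obs` fails.** -/
theorem not_obs (hp : Odd p) (hZ : Odd (Nat.card ↥(center ↥A))) (hcL : center L = ⊥) (hOut : OutComm L)
    (hL : SubDihedral L) : ¬ Obs p x := by
  have h1 := subDihedral_gen hn hA e hB hBA hBc hBs hZ hcL hOut hL hp
  refine Cfsg.Agent.H500.OddD8.not_obs_of_subDihedral hp x
    ((_root_.Subgroup.closure {g : ↥(fixedSubgroup x) | PE p g}).map (fixedSubgroup x).subtype) ?_ ?_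
  · intro g hg hgp
    refine ⟨⟨g, hg⟩, ?_, rfl⟩
    refine _root_.Subgroup.subset_closure ?_
    obtain ⟨m, hm⟩ := hgp
    exact ⟨m, Subtype.ext hm⟩
  · exact subDihedral_of_injective (((closure {g : ↥(fixedSubgroup x) | PE p g}).equivMapOfInjective _
      (Subgroup.subtype_injective _)).symm.toMonoidHom) (MulEquiv.injective _) h1

/-- **`PCase` fails.** -/
theorem not_pcase (hp : Odd p) (hL : NoP.{u} p L) : ¬ PCase p x := by
  rintro ⟨P, hP1, hP2, hP3, hP4, hP5, hP6, a, hP7, hP8, hP9⟩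
  have : Fact (Nat.Prime 2) := ⟨Nat.prime_two⟩
  obtain ⟨O, S, hO, hOodd, hS, hS2, hOS⟩ := exists_OS hB hBs
  have hPC : P ≤ fixedSubgroup x := fun u hu => hP1 u hu
  have hcard : Nat.card ↥(P.subgroupOf (fixedSubgroup x)) = Nat.card ↥P :=
    Nat.card_congr (subgroupOfEquivOfLe hPC).toEquiv
  have hPp : IsPGroup p ↥(P.subgroupOf (fixedSubgroup x)) := hP2.comap_of_injective _ (Subgroup.subtype_injective _)
  obtain ⟨Q, hQ⟩ := hPp.exists_le_sylow
  have hQP : (Q : Subgroup ↥(fixedSubgroup x)) = P.subgroupOf (fixedSubgroup x) := by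
    symm
    refine Subgroup.eq_of_le_of_card_ge hQ ?_
    rw [hcard]
    obtain ⟨k, hk, hk'⟩ := hP3 ((Q : Subgroup ↥(fixedSubgroup x)).map (fixedSubgroup x).subtype)
      (Q.isPGroup'.map _) (by
      rintro _ ⟨u, -, rfl⟩
      exact u.2)
    refine Nat.card_le_card_of_injective (fun u : ↥(Q : Subgroup ↥(fixedSubgroup x)) =>
      (⟨k * ((u : ↥(fixedSubgroup x)) : K) * k⁻¹, hk' _ ⟨u, u.2, rfl⟩⟩ : ↥P)) ?_
    intro u v huv
    have h1 : k * ((u : ↥(fixedSubgroup x)) : K) * k⁻¹ = k * ((v : ↥(fixedSubgroup x)) : K) * k⁻¹ :=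
      congrArg Subtype.val huv
    exact Subtype.ext (Subtype.ext (by simpa only [_root_.SetLike.coe_eq_coe, _root_.mul_left_inj, _root_.mul_right_inj] using h1))
  have hmem : ∀ u ∈ Q, ((u : ↥(fixedSubgroup x)) : K) ∈ P := by
    intro u hu
    have h1 : u ∈ (Q : Subgroup ↥(fixedSubgroup x)) := hu
    rw [hQP] at h1
    exact h1
  refine hL ↥(fixedSubgroup x) Q a ?_ ?_ ?_ hP8 hP9 (barHom hn e) (conj_mem_range hn e) ?_
  · intro u hu v hv
    exact Subtype.ext (hP5 _ (hmem u hu) _ (hmem v hv))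
  · intro u hu
    exact Subtype.ext (hP6 _ (hmem u hu))
  · rw [← hP7, ← hcard, ← hQP]
  · intro u hu hfu
    rw [mem_ker_bar hn hA] at hfu
    obtain ⟨m, hm⟩ := Q.isPGroup' ⟨u, hu⟩
    have hm' : u ^ p ^ m = 1 := congrArg Subtype.val hm
    -- `u` is central modulo `O`
    have hpi : ∀ g, (QuotientGroup.mk' O) g = 1 ↔ g ∈ O := fun g => QuotientGroup.eq_one_iff g
    have hsur : Function.Surjective (QuotientGroup.mk' O) := QuotientGroup.mk'_surjective O
    have hBm : B.map (QuotientGroup.mk' O) = S.map (QuotientGroup.mk' O) := by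
      rw [← hOS, Subgroup.map_sup]
      have h1 : O.map (QuotientGroup.mk' O) = ⊥ := by
        rw [eq_bot_iff]
        rintro _ ⟨b, hb, rfl⟩
        exact (hpi b).2 hb
      rw [h1, bot_sup_eq]
    have hSn : (S.map (QuotientGroup.mk' O)).Normal := by
      rw [← hBm]
      exact hB.map _ hsur
    have hSc : IsCyclic ↥(S.map (QuotientGroup.mk' O)) :=
      isCyclic_of_surjective ((QuotientGroup.mk' O).subgroupMap S) ((QuotientGroup.mk' O).subgroupMap_surjective S)
    have hpu : PE p ((QuotientGroup.mk' O) u) := ⟨m, by rw [← map_pow, hm', map_one]⟩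
    have hSu := comm_of_cyclic hp hSn hSc (hS2.map _) hpu
    have hcen : ∀ c : ↥(fixedSubgroup x), (QuotientGroup.mk' O) (c * u * c⁻¹) = (QuotientGroup.mk' O) u := by
      intro c
      obtain ⟨d, hd⟩ : ∃ d, d = (QuotientGroup.mk' O) ⁅c, u⁆ := ⟨_, rfl⟩
      have hdS : d ∈ S.map (QuotientGroup.mk' O) := by
        rw [hd, ← hBm]
        exact Subgroup.mem_map_of_mem _ (hBc c u hfu)
      have h1 : (QuotientGroup.mk' O) (c * u * c⁻¹) = d * (QuotientGroup.mk' O) u := by
        rw [hd, ← map_mul, commutatorElement_def]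
        congr 1
        group
      have h2 : PE p ((QuotientGroup.mk' O) (c * u * c⁻¹)) := by
        refine ⟨m, ?_⟩
        rw [← map_pow]
        have h3 : (c * u * c⁻¹) ^ p ^ m = 1 := by rw [conj_pow, hm', mul_one, mul_inv_cancel]
        rw [h3, map_one]
      have hcomm : Commute d ((QuotientGroup.mk' O) u) := (hSu d hdS).symm
      have h3 : PE p d := by
        have h4 : d = (QuotientGroup.mk' O) (c * u * c⁻¹) * ((QuotientGroup.mk' O) u)⁻¹ := by rw [h1]; group
        rw [h4]
        refine h2.of_commute hpu.inv ?_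
        rw [h1]
        exact (hcomm.mul_left (Commute.refl _)).inv_right
      obtain ⟨k, hk⟩ := (hS2.map (QuotientGroup.mk' O)) ⟨d, hdS⟩
      have hk' : d ^ 2 ^ k = 1 := congrArg Subtype.val hk
      obtain ⟨l, hl⟩ := h3
      have h5 : orderOf d = 1 := Nat.eq_one_of_dvd_coprimes (Nat.Coprime.pow l k (Nat.coprime_two_right.2 hp))
          (orderOf_dvd_of_pow_eq_one hl) (orderOf_dvd_of_pow_eq_one hk')
      rw [orderOf_eq_one_iff] at h5
      rw [h1, h5, one_mul]
    -- the normal subgroup `O ⟨u⟩`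
    have hRn : ∀ c : ↥(fixedSubgroup x), ∀ v ∈ O ⊔ zpowers u, c * v * c⁻¹ ∈ O ⊔ zpowers u := by
      intro c v hv
      obtain ⟨o, ho, w, hw, rfl⟩ := Subgroup.mem_sup_of_normal_left.1 hv
      have h1 : c * (o * w) * c⁻¹ = (c * o * c⁻¹) * (c * w * c⁻¹) := by group
      rw [h1]
      refine mul_mem (le_sup_left (b := zpowers u) (hO.conj_mem o ho c)) ?_
      obtain ⟨i, rfl⟩ := mem_zpowers_iff.1 hw
      rw [← conj_zpow]
      refine zpow_mem ?_ i
      have h2 : c * u * c⁻¹ * u⁻¹ ∈ O := by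
        rw [← hpi, map_mul, hcen, map_inv, mul_inv_cancel]
      have h3 : c * u * c⁻¹ = (c * u * c⁻¹ * u⁻¹) * u := by group
      rw [h3]
      exact mul_mem (le_sup_left (b := zpowers u) h2) (le_sup_right (a := O) (mem_zpowers u))
    have h1 := hP4 ((O ⊔ zpowers u).map (fixedSubgroup x).subtype) ?_ ?_ ?_ ((u : ↥(fixedSubgroup x)) : K)
      ⟨u, le_sup_right (a := O) (mem_zpowers u), rfl⟩ ⟨m, congrArg Subtype.val hm'⟩
    · exact Subtype.ext h1
    · rintro _ ⟨v, -, rfl⟩
      exact v.2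
    · rintro _ ⟨v, hv, rfl⟩ k hk
      exact ⟨⟨k, hk⟩ * v * ⟨k, hk⟩⁻¹, hRn ⟨k, hk⟩ v hv, rfl⟩
    · rw [Nat.card_congr ((O ⊔ zpowers u).equivMapOfInjective _ (Subgroup.subtype_injective _)).toEquiv.symm]
      refine Odd.of_dvd_nat ?_ (Cfsg.Agent.Lib.Cores.card_sup_dvd _ _ hO)
      refine Odd.mul hOodd ?_
      rw [Nat.card_zpowers]
      exact Odd.of_dvd_nat hp.pow (orderOf_dvd_of_pow_eq_one hm')

/-- **The row lemma kills the components with dihedral Sylow 2-subgroups and cyclic centralizer.** -/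
theorem kill (hp : Odd p) (hrow : Row p K) (hxx : ∀ g, x (x g) = g) (hx1 : x ≠ 1)
    (hZ : Odd (Nat.card ↥(center ↥A))) (hcL : center L = ⊥) (hOut : OutComm L)
    (hL : SubDihedral L) (hNo : NoP.{u} p L) : SectionalPRankLE 2 4 K := by
  rcases hrow x hxx hx1 with h | h | h
  · exact (not_obs hn hA e hB hBA hBc hBs hp hZ hcL hOut hL h).elim
  · exact h
  · exact (not_pcase hn hA e hB hBA hBc hBs hp hNo h).elim

omit hB hBA hBc hBs in
/-- The case of cyclic Sylow 2-subgroups of the centralizer. -/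
theorem kill_cyclic (hcyc : ∀ R : Sylow 2 ↥(centralizer (A : Set ↥(fixedSubgroup x))),
    IsCyclic ↥(R : Subgroup ↥(centralizer (A : Set ↥(fixedSubgroup x))))) (hp : Odd p) (hrow : Row p K)
    (hxx : ∀ g, x (x g) = g) (hx1 : x ≠ 1)
    (hZ : Odd (Nat.card ↥(center ↥A))) (hcL : center L = ⊥) (hOut : OutComm L)
    (hL : SubDihedral L) (hNo : NoP.{u} p L) : SectionalPRankLE 2 4 K := by
  have hDn : (centralizer (A : Set ↥(fixedSubgroup x))).Normal := by
    have := hn
    infer_instance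
  refine kill hn hA e hDn le_rfl ?_ hcyc hp hrow hxx hx1 hZ hcL hOut hL hNo
  intro c j hj
  rw [commutatorElement_def]
  exact mul_mem (hDn.conj_mem j hj c) (inv_mem hj)

end K

end Cfsg.Agent.H286.Kill
end

-- part: H286/KillL
section
/-!
# The side conditions of `Kill.kill` for the component groups

`Dih p L` : `Z(L) = 1`, `Out L` abelian, dihedral 2-subgroups, `NoP p L`; for `PSL₂(q)` with `q ≡ 7, 9 (mod 16)` or
`q = 5`, and for `A₇`.
-/

set_option autoImplicit false
set_option linter.unusedSectionVars false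

namespace Cfsg.Agent.H286.KillL

open Subgroup Cfsg Cfsg.Agent.H286.Obs Cfsg.Agent.H286.Row Cfsg.Agent.SectRankFour.OutAb Cfsg.Agent.H286.Kill
open Cfsg.Agent.Classification.DihedralCentral Cfsg.Agent.GH
open scoped commutatorElement

universe u v

/-- The side conditions of `Kill.kill` -/
structure Dih (p : ℕ) (L : Type v) [Group L] : Prop where
  cen : center L = ⊥
  out : OutComm L
  sub : SubDihedral L
  noP : NoP.{u} p L

theorem subDihedral_psl_two {F : Type v} [Field F] [Fintype F] (hF : Odd (Fintype.card F)) :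
    SubDihedral (Matrix.ProjectiveSpecialLinearGroup (Fin 2) F) := by
  have : Finite (Matrix.ProjectiveSpecialLinearGroup (Fin 2) F) := inferInstanceAs (Finite (_ ⧸ _))
  obtain ⟨S⟩ : Nonempty (Sylow 2 (Matrix.ProjectiveSpecialLinearGroup (Fin 2) F)) := inferInstance
  obtain ⟨k, -, ⟨e⟩⟩ := Cfsg.Agent.H991.psl2_dihedral hF S
  exact subDihedral_of_sylow S _ e

theorem center_psl_two {F : Type v} [Field F] [Fintype F] (hF : Odd (Fintype.card F)) :
    center (Matrix.ProjectiveSpecialLinearGroup (Fin 2) F) = ⊥ :=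
  (L2Aut.Rep.ofEquiv (F := F) (L2Aut.two_ne_zero_of_odd hF)
    (MulEquiv.refl (Matrix.ProjectiveSpecialLinearGroup (Fin 2) F))).center_eq_bot

/-- `PSL₂(q)`, `q ≡ 7, 9 (mod 16)` -/
theorem dih_l2 {F : Type v} [Field F] [Fintype F] (hF : Fintype.card F % 16 = 7 ∨ Fintype.card F % 16 = 9)
    {p : ℕ} [Fact p.Prime] (hp : p ≠ 2) : Dih.{u} p (Matrix.ProjectiveSpecialLinearGroup (Fin 2) F) := by
  have hodd : Odd (Fintype.card F) := by rw [Nat.odd_iff]; omega
  refine ⟨center_psl_two hodd, outComm_psl_two F, subDihedral_psl_two hodd, ?_⟩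
  intro H _ _ P a h1 h2 h3 h4 h5 f hf hk
  exact Cfsg.Agent.H51.OddSeven.false_l2 hp P h1 h2 h3 h4 h5 hF f hf hk

/-- `PSL₂(5)` -/
theorem dih_l2_five {F : Type v} [Field F] [Fintype F] (hF : Fintype.card F = 5)
    {p : ℕ} [Fact p.Prime] : Dih.{u} p (Matrix.ProjectiveSpecialLinearGroup (Fin 2) F) := by
  have hodd : Odd (Fintype.card F) := by rw [hF]; decide
  refine ⟨center_psl_two hodd, outComm_psl_two F, subDihedral_psl_two hodd, ?_⟩
  intro H _ _ P a h1 h2 h3 h4 h5 f hf hk
  have : Fact (Nat.Prime 5) := ⟨by norm_num⟩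
  have : Finite (Matrix.ProjectiveSpecialLinearGroup (Fin 2) F) := inferInstanceAs (Finite (_ ⧸ _))
  let g : (P : Subgroup H) →* MulAut (Matrix.ProjectiveSpecialLinearGroup (Fin 2) F) := f.comp (P : Subgroup H).subtype
  have hg : Function.Injective g := by
    rw [injective_iff_map_eq_one]
    rintro ⟨u, hu⟩ hu1
    exact Subtype.ext (hk u hu hu1)
  have h6 := Subgroup.card_dvd_of_injective g hg
  have h7 := Cfsg.Agent.H436.TT.card_mulAut (F := F) 5 1 (by rw [hF, pow_one]) le_rfl (by rw [hF]; norm_num)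
  have h8 : Nat.card (Matrix.ProjectiveSpecialLinearGroup (Fin 2) F) = 60 := by
    have h10 := Cfsg.Agent.ClassicalGeometry.PSL2Basic.card_PSL2_gcd (F := F)
    rw [hF] at h10
    norm_num at h10
    omega
  rw [h7, h8, hF] at h6
  rw [h3] at h6
  norm_num at h6
  have h9 : a ^ 2 ≤ 120 := Nat.le_of_dvd (by norm_num) h6
  have h10 : a ≤ 10 := by nlinarith only [h9]
  clear h7 h8 h3
  interval_cases a <;> revert h6 h4 <;> decide

/-- The full corollary : `A / Z(A) ≃ L`, `Dih p L` -/
theorem main {K : Type u} [Group K] [Finite K] {p : ℕ} [Fact p.Prime] (hp : p ≠ 2) (hrow : Row p K) {x : MulAut K}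
    {A : Subgroup ↥(fixedSubgroup x)} (hn : A.Normal) (hA : IsQuasisimple ↥A) {L : Type v}
    [Group L] (e : ↥A ⧸ center ↥A ≃* L) {B : Subgroup ↥(fixedSubgroup x)} (hB : B.Normal)
    (hBA : B ≤ centralizer (A : Set ↥(fixedSubgroup x)))
    (hBc : ∀ c : ↥(fixedSubgroup x), ∀ j ∈ centralizer (A : Set ↥(fixedSubgroup x)), ⁅c, j⁆ ∈ B)
    (hBs : ∀ S : Sylow 2 ↥B, IsCyclic ↥(S : Subgroup ↥B))
    (hxx : ∀ g, x (x g) = g) (hx1 : x ≠ 1) (hZ : Odd (Nat.card ↥(center ↥A))) (hL : Dih.{u} p L) :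
    SectionalPRankLE 2 4 K :=
  kill hn hA e hB hBA hBc hBs ((Fact.out : p.Prime).odd_of_ne_two hp) hrow hxx hx1 hZ hL.cen hL.out hL.sub hL.noP

theorem main_cyclic {K : Type u} [Group K] [Finite K] {p : ℕ} [Fact p.Prime] (hp : p ≠ 2) (hrow : Row p K)
    {x : MulAut K} {A : Subgroup ↥(fixedSubgroup x)} (hn : A.Normal) (hA : IsQuasisimple ↥A) {L : Type v}
    [Group L] (e : ↥A ⧸ center ↥A ≃* L)
    (hcyc : ∀ R : Sylow 2 ↥(centralizer (A : Set ↥(fixedSubgroup x))),
      IsCyclic ↥(R : Subgroup ↥(centralizer (A : Set ↥(fixedSubgroup x)))))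
    (hxx : ∀ g, x (x g) = g) (hx1 : x ≠ 1) (hZ : Odd (Nat.card ↥(center ↥A))) (hL : Dih.{u} p L) :
    SectionalPRankLE 2 4 K :=
  kill_cyclic hn hA e hcyc ((Fact.out : p.Prime).odd_of_ne_two hp) hrow hxx hx1 hZ hL.cen hL.out hL.sub hL.noP

end Cfsg.Agent.H286.KillL
end

private theorem dce_5a85a312f5d8 : _root_.True := by
  try have : _root_.True := by simp only [_root_.Cfsg.Agent.Lib.SL2Mat.up.eq_1]
  try have : _root_.True := by simp only [_root_.Cfsg.Agent.Lib.SL2Mat.mk.eq_1]
  exact _root_.True.intro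
end

-- part: H300/KillLem
section
set_option linter.all false
open scoped Cfsg.Agent.FastGrp

/-!
# Groups acting on `L_2(q)` with odd kernel (helper300)

* `rank_of_tight` : `SectionalPRankLE 2 4 X` if `C_X(x)` acts on a `Tight` group with odd kernel;
* `no_sixteen` : no elementary abelian subgroup of order 16 acts faithfully on `L_2(q)`, `q` odd;
* `no_sixty_four` : `64` does not divide `|C|`, if `16` does not divide `|L_2(q)|`.
-/

set_option autoImplicit false

namespace Cfsg.Agent.H300.KillLem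

open Subgroup Cfsg Cfsg.Agent Cfsg.Agent.H300.SporBase Cfsg.Agent.H300.D8Base Matrix

universe u v

/-- transport of an action -/
def _root_.Cfsg.Agent.H300.SporBase.Act.congr {C : Type u} [Group C] {P : Type v} [Group P] {P' : Type*} [Group P']
    (S : Act C P) (e : P ≃* P') : Act C P' where
  A := S.A
  norm := S.norm
  π := e.toMonoidHom.comp S.π
  surj := e.surjective.comp S.surj
  φ := (MulAut.congr e).toMonoidHom.comp S.φ
  compat := fun g a => by
    change e (S.π _) = e (S.φ g (e.symm (e (S.π a))))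
    rw [S.compat, e.symm_apply_apply]
  odd := by
    have h : ((MulAut.congr e).toMonoidHom.comp S.φ).ker = S.φ.ker := by
      ext g
      rw [MonoidHom.mem_ker, MonoidHom.mem_ker, MonoidHom.comp_apply]
      exact (MulAut.congr e).map_eq_one_iff
    rw [h]
    exact S.odd

theorem exists_gens {P : Type*} [Group P] {V : Subgroup P} (h4 : Nat.card ↥V = 4) (h2 : ∀ a ∈ V, a * a = 1)
    (hc : ∀ a ∈ V, ∀ b ∈ V, a * b = b * a) : ∃ a b, a ∈ V ∧ b ∈ V ∧ a ≠ 1 ∧ b ≠ 1 ∧ a ≠ b ∧
      ∀ v ∈ V, v = 1 ∨ v = a ∨ v = b ∨ v = a * b := by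
  have hfin : Finite ↥V := Nat.finite_of_card_ne_zero (by rw [h4]; norm_num)
  have hnt : Nontrivial ↥V := by
    apply Finite.one_lt_card_iff_nontrivial.1
    rw [h4]; norm_num
  obtain ⟨a, ha⟩ := exists_ne (1 : ↥V)
  obtain ⟨b, hb1, hb2⟩ : ∃ b : ↥V, b ≠ 1 ∧ b ≠ a := by
    by_contra hno
    push Not at hno
    have h1 : (Set.univ : Set ↥V) ⊆ {1, a} := by
      intro v _
      by_cases hv : v = 1
      · exact Or.inl hv
      · exact Or.inr (hno v hv)
    have h3 := Set.ncard_le_ncard h1 (Set.toFinite _)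
    rw [Set.ncard_univ, h4, Set.ncard_pair (Ne.symm ha)] at h3
    omega
  refine ⟨a, b, a.2, b.2, fun h => ha (Subtype.ext h), fun h => hb1 (Subtype.ext h), fun h => hb2 (Subtype.ext h.symm),
    fun v hv => ?_⟩
  have haa := h2 a a.2
  have hbb := h2 b b.2
  have hab1 : (a : P) * b ≠ 1 := fun h => hb2 (Subtype.ext (by
    have : (b : P) = (a : P)⁻¹ := (inv_eq_of_mul_eq_one_right h).symm
    rw [this, inv_eq_of_mul_eq_one_left haa]))
  by_contra hno
  push Not at hno
  obtain ⟨n1, n2, n3, n4⟩ := hno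
  have hcard : 5 ≤ Nat.card ↥V := by
    let f : Fin 5 → ↥V := ![1, a, b, a * b, ⟨v, hv⟩]
    have hf : Function.Injective f := by
      have e1 : (1 : ↥V) ≠ a := Ne.symm ha
      have e2 : (1 : ↥V) ≠ b := Ne.symm hb1
      have e3 : (1 : ↥V) ≠ a * b := fun h => hab1 (congrArg Subtype.val h).symm
      have e4 : (1 : ↥V) ≠ ⟨v, hv⟩ := fun h => n1 (congrArg Subtype.val h).symm
      have e5 : a ≠ a * b := fun h => hb1 (mul_eq_left.1 h.symm)
      have e6 : b ≠ a * b := fun h => ha (mul_eq_right.1 h.symm)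
      have e7 : a ≠ ⟨v, hv⟩ := fun h => n2 (congrArg Subtype.val h).symm
      have e8 : b ≠ ⟨v, hv⟩ := fun h => n3 (congrArg Subtype.val h).symm
      have e9 : a * b ≠ ⟨v, hv⟩ := fun h => n4 (congrArg Subtype.val h).symm
      intro i j hij
      fin_cases i <;> fin_cases j <;>
        first
          | rfl
          | (exfalso; first
              | exact e1 hij | exact e1 hij.symm | exact e2 hij | exact e2 hij.symm | exact e3 hij | exact e3 hij.symm
              | exact e4 hij | exact e4 hij.symm | exact e5 hij | exact e5 hij.symm | exact e6 hij | exact e6 hij.symm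
              | exact e7 hij | exact e7 hij.symm | exact e8 hij | exact e8 hij.symm | exact e9 hij | exact e9 hij.symm
              | exact hb2 hij | exact hb2 hij.symm)
    have := Nat.card_le_card_of_injective f hf
    simpa using this
  omega

/-- **`Tight` groups** -/
theorem rank_of_tight {X : Type u} [Group X] [Finite X] {x : MulAut X} (hxx : x * x = 1) (hx1 : x ≠ 1) {P : Type v}
    [Group P] [Finite P] (S : Act ↥(fixedSubgroup x) P) (hP : Tight P) : SectionalPRankLE 2 4 X := by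
  obtain ⟨V, h1, h2, h3, h4⟩ := hP
  obtain ⟨a, b, ha, hb, ha1, hb1, hne, hall⟩ := exists_gens h3 h2 h1
  refine rank_of_act hxx hx1 S (h2 a ha) (h2 b hb) (h1 a ha b hb) ha1 hb1 hne ?_
  intro g _ hga hgb
  obtain ⟨c, hc, hgc⟩ := h4 (S.φ g) (by
    intro v hv
    rcases hall v hv with rfl | rfl | rfl | rfl
    · rw [map_one]
    · exact hga
    · exact hgb
    · rw [map_mul, hga, hgb])
  exact ⟨c, hall c hc, hgc⟩

/-- `L_2(7)` -/
theorem rank_seven {X : Type u} [Group X] [Finite X] {x : MulAut X} (hxx : x * x = 1) (hx1 : x ≠ 1) {F : Type*}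
    [Field F] [Fintype F] (hF : Fintype.card F = 7) (S : Act ↥(fixedSubgroup x) (ProjectiveSpecialLinearGroup (Fin 2) F)) :
    SectionalPRankLE 2 4 X := by
  have hK : Fintype.card (ZMod 2) = 2 := ZMod.card 2
  obtain ⟨e⟩ := S0255.result (F := F) (K := ZMod 2) hF hK
  exact rank_of_tight hxx hx1 (S.congr e) (D8Three.tight hK)

/-- elementary abelian subgroups of order 16 -/
theorem no_sixteen {C : Type u} [Group C] [Finite C] {F : Type*} [Field F] [Fintype F] (hF : Odd (Fintype.card F))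
    (S : Act C (ProjectiveSpecialLinearGroup (Fin 2) F)) (E : Subgroup C) (h2 : ∀ a ∈ E, a * a = 1)
    (hE : Nat.card ↥E = 16) : False := by
  have hinj : Function.Injective (S.φ.comp E.subtype) := by
    rw [injective_iff_map_eq_one]
    intro a ha
    apply Subtype.ext
    exact S.eq_one (k := 1) ha (by rw [pow_one, pow_two]; exact h2 _ a.2)
  have h1 := OddHalf.NI.Ex.RankAut.card_le_eight
    (GH.L2Aut.Rep.ofEquiv (GH.L2Aut.two_ne_zero_of_odd hF) (MulEquiv.refl (ProjectiveSpecialLinearGroup (Fin 2) F)))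
    (E.map S.φ) (by
      rintro _ ⟨a, ha, rfl⟩
      rw [← map_mul, h2 a ha, map_one])
  have h3 : Nat.card ↥(E.map S.φ) = Nat.card ↥E := by
    have h4 : E.map S.φ = (S.φ.comp E.subtype).range := by
      rw [MonoidHom.range_comp, range_subtype]
    rw [h4]
    exact (Nat.card_congr (MonoidHom.ofInjective hinj).toEquiv).symm
  rw [h3, hE] at h1
  omega

/-- `q ≡ 1 (mod 16)` for fourth powers -/
theorem sixteen_dvd {q : ℕ} (hq : q % 16 = 1) (hq1 : 1 < q) : 32 ∣ q ^ 2 - 1 := by
  obtain ⟨k, rfl⟩ : ∃ k, q = 16 * k + 1 := ⟨q / 16, by omega⟩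
  have h : (16 * k + 1) ^ 2 - 1 = 32 * (k * (8 * k + 1)) := by
    have : (16 * k + 1) ^ 2 = 32 * (k * (8 * k + 1)) + 1 := by ring
    rw [this]
    rfl
  rw [h]
  exact Dvd.intro _ rfl

theorem not_dvd_aut {F : Type*} [Field F] [Fintype F] (hF : Odd (Fintype.card F)) (h3 : 3 < Fintype.card F)
    (h16 : ¬ 16 ∣ Nat.card (ProjectiveSpecialLinearGroup (Fin 2) F)) :
    ¬ 64 ∣ Nat.card (MulAut (ProjectiveSpecialLinearGroup (Fin 2) F)) := by
  have hprime : Fact (ringChar F).Prime := ⟨CharP.char_is_prime F (ringChar F)⟩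
  obtain ⟨n, hn⟩ := FiniteField.card F (ringChar F)
  have h1 := H436.TT.card_mulAut (F := F) (ringChar F) n hn.2 n.pos h3
  have h2 := SmallSimple.PSLTwoPart.card_psl_two_odd hF
  intro h64
  rw [h1] at h64
  -- `4` divides `n`
  have hg : Nat.gcd 2 (Fintype.card F - 1) = 2 := by
    apply Nat.gcd_eq_left
    obtain ⟨k, hk⟩ := hF
    exact ⟨k, by omega⟩
  rw [hg] at h64
  have h4 : 4 ∣ (n : ℕ) := by
    by_contra h4
    have h5 : 32 ∣ (n : ℕ) * Nat.card (ProjectiveSpecialLinearGroup (Fin 2) F) := by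
      have : 2 * 32 ∣ 2 * ((n : ℕ) * Nat.card (ProjectiveSpecialLinearGroup (Fin 2) F)) := by
        rw [← mul_assoc]; exact h64
      exact Nat.dvd_of_mul_dvd_mul_left (by norm_num) this
    -- 2-adic valuations
    obtain ⟨a, b, ha, hb⟩ : ∃ a b, (n : ℕ) = 2 ^ a * b ∧ Odd b := by
      obtain ⟨a, b, hb, hab⟩ := Nat.exists_eq_two_pow_mul_odd n.ne_zero
      exact ⟨a, b, hab, hb⟩
    obtain ⟨c, e, hc, he⟩ : ∃ a b, Nat.card (ProjectiveSpecialLinearGroup (Fin 2) F) = 2 ^ a * b ∧ Odd b := by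
      obtain ⟨a, b, hb, hab⟩ := Nat.exists_eq_two_pow_mul_odd
        (Nat.card_pos (α := ProjectiveSpecialLinearGroup (Fin 2) F)).ne'
      exact ⟨a, b, hab, hb⟩
    have ha2 : a ≤ 1 := by
      by_contra hlt
      apply h4
      rw [ha]
      exact (pow_dvd_pow 2 (show 2 ≤ a by omega)).trans (Dvd.intro _ rfl)
    have hc2 : c ≤ 3 := by
      by_contra hlt
      apply h16
      rw [hc]
      exact (pow_dvd_pow 2 (show 4 ≤ c by omega)).trans (Dvd.intro _ rfl)
    rw [ha, hc] at h5
    have h6 : 2 ^ 5 ∣ 2 ^ (a + c) * (b * e) := by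
      have : 2 ^ (a + c) * (b * e) = 2 ^ a * b * (2 ^ c * e) := by rw [pow_add]; ring
      rw [this]
      exact h5
    have h7 : (2 ^ 5).Coprime (b * e) := (Nat.coprime_two_left.2 (hb.mul he)).pow_left 5
    have h8 := h7.dvd_of_dvd_mul_right h6
    have h9 := Nat.pow_dvd_pow_iff_le_right' (b := 0) |>.1 h8
    omega
  -- then `q` is a fourth power
  obtain ⟨m, hm⟩ := h4
  have hq : Fintype.card F % 16 = 1 := by
    rw [hn.2, hm, mul_comm 4 m, pow_mul]
    have ho : Odd (ringChar F ^ m) := by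
      apply Odd.pow
      rw [hn.2] at hF
      exact Nat.Odd.of_mul_right (by
        have : ringChar F ^ (n : ℕ) = ringChar F ^ ((n : ℕ) - 1) * ringChar F := by
          rw [← pow_succ, Nat.sub_add_cancel n.pos]
        rwa [this] at hF)
    have h5 : (ringChar F ^ m) % 16 < 16 := Nat.mod_lt _ (by norm_num)
    have h6 : (ringChar F ^ m) % 2 = 1 := Nat.odd_iff.1 ho
    rw [Nat.pow_mod]
    have h7 : (ringChar F ^ m) % 16 % 2 = 1 := by omega
    generalize (ringChar F ^ m) % 16 = r at h5 h7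
    interval_cases r <;> first | rfl | omega
  have h5 := sixteen_dvd hq (by omega)
  apply h16
  have h6 : 2 * 16 ∣ 2 * Nat.card (ProjectiveSpecialLinearGroup (Fin 2) F) := by
    rw [h2]
    exact h5.trans (Dvd.intro_left _ rfl)
  exact Nat.dvd_of_mul_dvd_mul_left (by norm_num) h6

/-- `64` does not divide `|C|` -/
theorem no_sixty_four {C : Type u} [Group C] [Finite C] {F : Type*} [Field F] [Fintype F] (hF : Odd (Fintype.card F))
    (h3 : 3 < Fintype.card F) (h16 : ¬ 16 ∣ Nat.card (ProjectiveSpecialLinearGroup (Fin 2) F))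
    (S : Act C (ProjectiveSpecialLinearGroup (Fin 2) F)) : ¬ 64 ∣ Nat.card C := fun h =>
  not_dvd_aut hF h3 h16 (S.two_pow_dvd (k := 6) h)

end Cfsg.Agent.H300.KillLem
end

-- part: H300/SporIn
section
set_option linter.all false
open scoped Cfsg.Agent.FastGrp

/-!
# Components with Sylow 2-subgroups `D_8` of the involution centralizers of the sporadic groups (helper300)

`inner` : `K` a component of `C_X(z)`, `X` sporadic or the Tits group, with Sylow 2-subgroups `D_8` and a centre of odd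
order: `X = HS` and `K = A_6`.
-/

set_option autoImplicit false

namespace Cfsg.Agent.H300.SporIn

open Subgroup Cfsg
open Cfsg.Agent.H287 Cfsg.Agent.NotCT Cfsg.Agent.CTwoTab Cfsg.Agent.H291 Cfsg.Agent.H291.RowsI
open Cfsg.Agent.H300.D8Base Cfsg.Agent.OrdDiv

universe u v

variable {X : Type u} [Group X] [Finite X] {z : X} {K : Subgroup X}

/-- a row -/
theorem row_of {S : ℕ → ℕ → Prop} (h : CompCard S X) (hS : ∀ a b, S a b → 8 ∣ a → ¬ 16 ∣ a → False)
    (hz : orderOf z = 2) (hK : IsComponentOf K (centralizer ({z} : Set X))) (hD : D8 ↥K) : False :=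
  hS _ _ (h z hz K hK) hD.dvd hD.not_dvd

theorem row_fix {S : ℕ → ℕ → Prop} (hc : center X = ⊥) (h : FixCard S X) (hS : ∀ a b, S a b → 8 ∣ a → ¬ 16 ∣ a → False)
    (hz : orderOf z = 2) (hK : IsComponentOf K (centralizer ({z} : Set X))) (hD : D8 ↥K) : False :=
  row_of (h.compCard hc) hS hz hK hD

theorem eight_dvd (hD : D8 ↥K) : 8 ∣ Nat.card X := hD.dvd.trans (card_subgroup_dvd_card K)

/-- the divisors of `|²E₆(2)|` -/
theorem cand_e : (cand [(2, 36), (3, 9), (5, 2), (7, 2), (11, 1), (13, 1), (17, 1), (19, 1)] 76532479683774853939200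
    fPSL).all (fun x => Nat.ble x.2 64) = true := by decide +kernel

theorem valid_e : valid [(2, 36), (3, 9), (5, 2), (7, 2), (11, 1), (13, 1), (17, 1), (19, 1)] 76532479683774853939200
    = true := by decide +kernel

theorem card_mulAut_le {F : Type*} [Field F] [Fintype F] (hF : Odd (Fintype.card F)) (h3 : 3 < Fintype.card F) :
    Nat.card (MulAut (Matrix.ProjectiveSpecialLinearGroup (Fin 2) F)) ≤ Fintype.card F ^ 4 := by
  have hprime : Fact (ringChar F).Prime := ⟨CharP.char_is_prime F (ringChar F)⟩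
  obtain ⟨n, hn⟩ := FiniteField.card F (ringChar F)
  have h1 := H436.TT.card_mulAut (F := F) (ringChar F) n hn.2 n.pos h3
  have h2 := SmallSimple.PSLTwoPart.card_psl_two_odd hF
  have hg : Nat.gcd 2 (Fintype.card F - 1) = 2 := by
    apply Nat.gcd_eq_left
    obtain ⟨k, hk⟩ := hF
    exact ⟨k, by omega⟩
  have hnle : (n : ℕ) ≤ Fintype.card F := by
    rw [hn.2]
    exact (Nat.lt_pow_self hprime.1.one_lt).le
  rw [h1, hg]
  calc 2 * (n : ℕ) * Nat.card (Matrix.ProjectiveSpecialLinearGroup (Fin 2) F)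
      = (n : ℕ) * (2 * Nat.card (Matrix.ProjectiveSpecialLinearGroup (Fin 2) F)) := by ring
    _ = (n : ℕ) * (Fintype.card F * (Fintype.card F ^ 2 - 1)) := by rw [h2]
    _ ≤ Fintype.card F * (Fintype.card F * Fintype.card F ^ 2) :=
        Nat.mul_le_mul hnle (Nat.mul_le_mul_left _ (Nat.sub_le _ _))
    _ = Fintype.card F ^ 4 := by ring

theorem row_b (h : Spor.IsoB X) (hz : orderOf z = 2) (hK : IsComponentOf K (centralizer ({z} : Set X)))
    (hD : D8 ↥K) (hZ : Odd (Nat.card ↥(center ↥K))) : False := by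
  obtain ⟨K4, _, _, hK4⟩ := BabyTab.exists_field
  obtain ⟨f⟩ := h
  have h1 := isComponentOf_map f hK
  rw [map_centralizer_singleton] at h1
  have h2 := (BabyTab.table K4 hK4 (f z) (by rw [MulEquiv.orderOf_eq, hz]) _ h1).congr (subMap f K).symm
  have : Finite (Lie.twistedE6 K4 2) := Nat.finite_of_card_ne_zero (by rw [BabyTab.card_E K4 hK4]; norm_num)
  have hE : center (Lie.twistedE6 K4 2) = ⊥ := CpAut.TwoInner.center_eq_bot_of_card
    (MonsterN.EInst.isSimple K4 hK4) (by rw [BabyTab.card_E K4 hK4]; norm_num)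
  have hq : IsQuasisimple ↥K := (SignalizersComponents.Components.isQuasisimple_congr (subgroupOfEquivOfLe hK.1)).1 hK.2.2
  have h16 : ∀ m : ℕ, m ∣ Nat.card ↥K → m ≠ 76532479683774853939200 := by
    rintro m hm rfl
    exact hD.not_dvd ((by norm_num : 16 ∣ 76532479683774853939200).trans hm)
  rcases D8GW.gw hq hZ hD with ⟨F, i1, i2, hodd, h3, ⟨e⟩⟩ | ⟨⟨e⟩⟩
  · have h4 := h2.cases hE e
    rw [BabyTab.card_E K4 hK4] at h4
    rcases h4 with h4 | ⟨h4, h5⟩
    · apply h16 _ _ h4
      rw [← Nat.card_congr e.toEquiv]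
      exact card_quotient_dvd_card _
    · have h6 := (psl_mem valid_e le_rfl (fun _ => h3) h4).1
      have h7 := List.all_eq_true.1 cand_e _ h6
      have h8 : Fintype.card F ≤ 64 := Nat.le_of_ble_eq_true h7
      have h9 := card_mulAut_le hodd h3
      have h10 : Fintype.card F ^ 4 ≤ 64 ^ 4 := Nat.pow_le_pow_left h8 4
      have h11 := h5.trans (Nat.mul_le_mul_left 13571955000 (h9.trans h10))
      norm_num at h11
  · have h4 := h2.cases hE e
    rw [BabyTab.card_E K4 hK4] at h4
    rcases h4 with h4 | ⟨h4, h5⟩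
    · apply h16 _ _ h4
      rw [← Nat.card_congr e.toEquiv]
      exact card_quotient_dvd_card _
    · have h10 : Nat.card (MulAut ↥(alternatingGroup (Fin 7))) = (7 : ℕ).factorial := by
        rw [← Nat.card_congr (Equiv.ofBijective _ (S2119.result 7 (by omega) (by omega))), Nat.card_perm, Nat.card_fin]
      rw [h10] at h5
      revert h5
      decide

/-- **The components with Sylow 2-subgroups `D_8` of the centralizers of inner involutions.** -/
theorem inner [IsSimpleGroup X] (h : IsSporadicGroup X ∨ Lie.IsoTits X) (hz : orderOf z = 2)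
    (hK : IsComponentOf K (centralizer ({z} : Set X))) (hD : D8 ↥K) (hZ : Odd (Nat.card ↥(center ↥K))) :
    Spor.IsoHS X ∧ Nonempty (↥K ≃* ↥(alternatingGroup (Fin 6))) := by
  have hd := eight_dvd hD
  have hc : center X = ⊥ := by
    refine CpAut.TwoInner.center_eq_bot_of_card inferInstance ?_
    intro hp
    have h2 : 2 ∣ Nat.card X := (by norm_num : 2 ∣ 8).trans hd
    have h4 := (Nat.prime_dvd_prime_iff_eq Nat.prime_two hp).1 h2
    omega
  rcases h with h | h
  · rcases h with h | h | h | h | h | h | h | h | h | h | h | h | h | h | h | h | h | h | h | h | h | h | h | h | h | h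
    · exact (row_fix hc (fix_m11 h) (fun _ _ h => h.elim) hz hK hD).elim
    · exact (row_of (compCard_m12 h) (fun a b h _ => by omega) hz hK hD).elim
    · exact (row_of (compCard_m22 h) (fun _ _ h => h.elim) hz hK hD).elim
    · exact (row_fix hc (fix_m23 h) (fun _ _ h => h.elim) hz hK hD).elim
    · exact (row_fix hc (fix_m24 h) (fun _ _ h => h.elim) hz hK hD).elim
    · exact (row_of (compCard_j1 h) (fun a b h _ => by omega) hz hK hD).elim
    · exact (row_of (compCard_j2 h) (fun a b h _ => by omega) hz hK hD).elim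
    · exact (row_of (compCard_j3 h) (fun _ _ h => h.elim) hz hK hD).elim
    · exact (row_fix hc (fix_j4 h) (fun _ _ h => h.elim) hz hK hD).elim
    · exact (row_fix hc (fix_co1 h) (fun a b h _ => by omega) hz hK hD).elim
    · exact (row_fix hc (fix_co2 h) (fun _ _ h => h.elim) hz hK hD).elim
    · exact (row_fix hc (fix_co3 h) (fun a b h hab => by omega) hz hK hD).elim
    · exact (row_of (TwoAlt.compCard_mcl h) (fun a b h hab => by omega) hz hK hD).elim
    · exact ⟨h, CTwoTab.HS.comp_of_iso h hz hK⟩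
    · exact (row_of (compCard_suz h) (fun a b h hab => by omega) hz hK hD).elim
    · exact (row_of (compCard_he h) (fun a b h hab => by omega) hz hK hD).elim
    · exact (row_of (compCard_ru h) (fun a b h _ => by omega) hz hK hD).elim
    · exact (row_of (InnON.compCard h) (fun a b h hab => by omega) hz hK hD).elim
    · exact (row_of (TwoAlt.compCard_ly h) (fun a b h hab => by omega) hz hK hD).elim
    · exact (row_of (compCard_fi22 h) (fun a b h hab => by omega) hz hK hD).elim
    · exact (row_fix hc (fix_fi23 h) (fun a b h hab => by omega) hz hK hD).elim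
    · exact (row_of (compCard_fi24 h) (fun a b h hab => by omega) hz hK hD).elim
    · exact (row_of (compCard_hn h) (fun a b h hab => by omega) hz hK hD).elim
    · exact (row_fix hc (fix_th h) (fun _ _ h => h.elim) hz hK hD).elim
    · exact (row_b h hz hK hD hZ).elim
    · exact (row_fix hc (fix_m h) (fun a b h hab => by omega) hz hK hD).elim
  · exact (row_of (S := fun _ _ => False) (compCard_of_ct (fun _ hu => EvenType.CharTwoCent.char2_centralizer
      (EvenType.ChevTwoTits.charTwo h) hu)) (fun _ _ h => h.elim) hz hK hD).elim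

end Cfsg.Agent.H300.SporIn
end

-- part: H300/SporOut
section
set_option linter.all false
open scoped Cfsg.Agent.FastGrp

/-!
# Components with Sylow 2-subgroups `D_8` : the outer involutory automorphisms of the sporadic groups (helper300)
-/

set_option autoImplicit false
set_option linter.unusedSectionVars false

namespace Cfsg.Agent.H300.SporOut

open Subgroup Cfsg Matrix
open Cfsg.Agent.H287 Cfsg.Agent.NotCT Cfsg.Agent.H291
open Cfsg.Agent.H300.D8Base Cfsg.Agent.H300.SporBase Cfsg.Agent.H300.SixRow Cfsg.Agent.H300.KillLem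
open Cfsg.Agent.OrdDiv

universe u

variable {X : Type u} [Group X] [Finite X]

/-- the situation: `A` is a normal component of `C_X(x)` with `A/Z(A) = L₂(F)`, and no involution of `C_X(x)`
centralizes `A`. -/
structure Sit (x : MulAut X) (A : Subgroup ↥(fixedSubgroup x)) (F : Type) [Field F] [Fintype F] where
  hx : orderOf x = 2
  out : ¬ ∃ g, x = MulAut.conj g
  comp : IsComponent A
  norm : A.Normal
  d8 : D8 ↥A
  odd : Odd (Nat.card ↥(center ↥A))
  hF : Odd (Fintype.card F)
  h3 : 3 < Fintype.card F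
  e : ↥A ⧸ center ↥A ≃* ProjectiveSpecialLinearGroup (Fin 2) F
  ho : ∀ u : ↥(fixedSubgroup x), orderOf u = 2 → u ∉ centralizer (A : Set ↥(fixedSubgroup x))

namespace Sit

variable {x : MulAut X} {A : Subgroup ↥(fixedSubgroup x)} {F : Type} [Field F] [Fintype F] (S : Sit x A F)

include S

theorem hxx : x * x = 1 := by rw [← pow_two, ← S.hx, pow_orderOf_eq_one]

theorem hx1 : x ≠ 1 := by
  intro h
  have := S.hx
  rw [h, orderOf_one] at this
  exact absurd this (by norm_num)

/-- the action -/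
noncomputable def act : Act ↥(fixedSubgroup x) (ProjectiveSpecialLinearGroup (Fin 2) F) :=
  ofComp S.norm S.comp.2 S.e S.ho

theorem card_bar : Nat.card (ProjectiveSpecialLinearGroup (Fin 2) F) * Nat.card ↥(center ↥A) = Nat.card ↥A := by
  rw [← Nat.card_congr S.e.toEquiv]
  exact (card_eq_card_quotient_mul_card_subgroup _).symm

theorem dvd_X : Nat.card (ProjectiveSpecialLinearGroup (Fin 2) F) ∣ Nat.card X :=
  ((Dvd.intro _ S.card_bar).trans (card_subgroup_dvd_card A)).trans (card_subgroup_dvd_card _)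

theorem not_sixteen : ¬ 16 ∣ Nat.card (ProjectiveSpecialLinearGroup (Fin 2) F) := fun h =>
  S.d8.not_dvd (h.trans (Dvd.intro _ S.card_bar))

theorem eight : 8 ∣ Nat.card (ProjectiveSpecialLinearGroup (Fin 2) F) := by
  have h1 := S.d8.dvd
  rw [← S.card_bar] at h1
  exact ((Nat.coprime_two_left.2 S.odd).pow_left 3).dvd_of_dvd_mul_right h1

theorem no_out (h : ∀ α : MulAut X, ∃ g : X, α = MulAut.conj g) : False := S.out (h x)

theorem card_of_out {T : ℕ → ℕ → Prop} (h : OutCard T X) (hT : ∀ a b, T a b → 8 ∣ a → ¬ 16 ∣ a → False) : False :=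
  hT _ _ (h x S.hx S.out A S.comp) S.d8.dvd S.d8.not_dvd

theorem no_e16 (E : Subgroup X) (h1 : E ≤ fixedSubgroup x) (h2 : ∀ a ∈ E, a * a = 1) (h3 : Nat.card ↥E = 16) : False := by
  refine no_sixteen S.hF S.act (E.subgroupOf (fixedSubgroup x)) ?_ ?_
  · rintro ⟨a, ha⟩ hE
    exact Subtype.ext (h2 a hE)
  · rw [Nat.card_congr (subgroupOfEquivOfLe h1).toEquiv, h3]

theorem no_64 : ¬ 64 ∣ Nat.card ↥(fixedSubgroup x) := no_sixty_four S.hF S.h3 S.not_sixteen S.act

/-- the test for the candidates -/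
def tst (q : ℕ) : Bool :=
  (q % 2 == 0) || !((q * (q ^ 2 - 1) / 2) % 8 == 0) || ((q * (q ^ 2 - 1) / 2) % 16 == 0) || q == 7 || q == 9

omit S in
theorem card_psl (hF : Odd (Fintype.card F)) : Nat.card (ProjectiveSpecialLinearGroup (Fin 2) F) =
    Fintype.card F * (Fintype.card F ^ 2 - 1) / 2 := by
  have h := SmallSimple.PSLTwoPart.card_psl_two_odd hF
  omega

theorem q_of {l : List (ℕ × ℕ)} {N : ℕ} (hv : valid l N = true) (hN : Nat.card X = N)
    (ht : (cand l N fPSL).all (fun y => !(y.1 == 2) || tst y.2) = true) : Fintype.card F = 7 ∨ Fintype.card F = 9 := by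
  have h1 := (psl_mem hv le_rfl (fun _ => S.h3) (hN ▸ S.dvd_X)).1
  have h2 := List.all_eq_true.1 ht _ h1
  have h3 := S.hF
  have h4 := S.eight
  have h5 := S.not_sixteen
  rw [card_psl S.hF] at h4 h5
  simp only [beq_self_eq_true, Bool.not_true, Bool.false_or, tst, Bool.or_eq_true, Bool.not_eq_true', beq_iff_eq,
    beq_eq_false_iff_ne, ne_eq] at h2
  rw [Nat.odd_iff] at h3
  omega

/-- the conclusion for `q ∈ {7, 9}` -/
theorem of_six (h : Fintype.card F = 7 ∨ Fintype.card F = 9)
    (h9 : ∀ (S' : Act ↥(fixedSubgroup x) (alternatingGroup (Fin 6))) (s : ↥(fixedSubgroup x)), Six S' s → False) :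
    SectionalPRankLE 2 4 X := by
  rcases h with h | h
  · exact rank_seven S.hxx S.hx1 h S.act
  · obtain ⟨e⟩ := S0254.result h
    rcases dich S.hxx S.hx1 (S.act.congr e) with h1 | ⟨s, hs⟩
    · exact h1
    · exact (h9 _ s hs).elim

theorem q_j2 (h : Spor.IsoJ2 X) : Fintype.card F = 7 ∨ Fintype.card F = 9 :=
  S.q_of (l := [(2, 7), (3, 3), (5, 2), (7, 1)]) (by decide +kernel) (Orders.j2 h) (by decide +kernel)

theorem q_mcl (h : Spor.IsoMcL X) : Fintype.card F = 7 ∨ Fintype.card F = 9 :=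
  S.q_of (l := [(2, 7), (3, 6), (5, 3), (7, 1), (11, 1)]) (by decide +kernel) (Orders.mcl h) (by decide +kernel)

theorem q_he (h : Spor.IsoHe X) : Fintype.card F = 7 ∨ Fintype.card F = 9 :=
  S.q_of (l := [(2, 10), (3, 3), (5, 2), (7, 3), (17, 1)]) (by decide +kernel) (Orders.he h) (by decide +kernel)

theorem q_hn (h : Spor.IsoHN X) : Fintype.card F = 7 ∨ Fintype.card F = 9 :=
  S.q_of (l := [(2, 14), (3, 6), (5, 6), (7, 1), (11, 1), (19, 1)]) (by decide +kernel) (Orders.hn h) (by decide +kernel)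

theorem q_j3 (h : Spor.IsoJ3 X) : Fintype.card F = 7 ∨ Fintype.card F = 9 :=
  S.q_of (l := [(2, 7), (3, 5), (5, 1), (17, 1), (19, 1)]) (by decide +kernel) (Orders.j3 h) (by decide +kernel)

theorem five (h : Fintype.card F = 9) : ∃ w : X, x w = w ∧ orderOf w = 5 := by
  have h5 : Fact (Nat.Prime 5) := ⟨by norm_num⟩
  have h1 : 5 ∣ Nat.card ↥A := by
    rw [← S.card_bar, card_psl S.hF, h]
    exact Dvd.dvd.mul_right (by norm_num) _
  obtain ⟨a, ha⟩ := exists_prime_orderOf_dvd_card' 5 h1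
  refine ⟨((a : ↥(fixedSubgroup x)) : X), (a : ↥(fixedSubgroup x)).2, ?_⟩
  rw [Subgroup.orderOf_coe, Subgroup.orderOf_coe, ha]

theorem row_j3 (h : Spor.IsoJ3 X) : SectionalPRankLE 2 4 X := by
  rcases S.q_j3 h with h7 | h9
  · exact rank_seven S.hxx S.hx1 h7 S.act
  · obtain ⟨w, hw, h5⟩ := S.five h9
    exact (OuterJThree.no_five h S.hxx S.out hw h5).elim

theorem four : ∃ w : X, x w = w ∧ w ^ 4 = 1 ∧ w * w ≠ 1 := by
  obtain ⟨P⟩ : Nonempty (Sylow 2 ↥A) := inferInstance
  obtain ⟨e⟩ := S.d8 P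
  have h1 : e.symm (DihedralGroup.r 1) ^ 4 = 1 := by
    rw [← map_pow, show (DihedralGroup.r 1 : DihedralGroup 4) ^ 4 = 1 from by decide +kernel, map_one]
  have h2 : e.symm (DihedralGroup.r 1) * e.symm (DihedralGroup.r 1) ≠ 1 := by
    rw [← map_mul]
    intro h
    have h3 := e.symm.injective (h.trans (map_one _).symm)
    revert h3
    decide +kernel
  set a := e.symm (DihedralGroup.r 1)
  refine ⟨(((a : ↥A) : ↥(fixedSubgroup x)) : X), ((a : ↥A) : ↥(fixedSubgroup x)).2, ?_, ?_⟩
  · have h3 := congrArg (fun y : ↥(P : Subgroup ↥A) => ((((y : ↥A) : ↥(fixedSubgroup x)) : X))) h1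
    exact h3
  · intro h3
    exact h2 (Subtype.ext (Subtype.ext (Subtype.ext h3)))

theorem row_on (h : Spor.IsoON X) : False := by
  obtain ⟨w, hw, h4, h2⟩ := S.four
  exact h2 (OutONSq.sq_eq_one h S.hx S.out hw (k := 2) h4)

theorem row_fi24 (h : Spor.IsoFi24' X) : False :=
  S.card_of_out (FiOut.outCard h) fun a b h => by
    unfold FiOut.SF at h
    omega

theorem row_m12 (h : Spor.IsoM12 X) : False :=
  S.card_of_out (outCard_m12 h) fun a b h => by omega

theorem row_m22 (h : Spor.IsoM22 X) : False := by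
  rcases OddHalf.NI.Ex.RowM22.exists_sixteen h S.hxx with ⟨g, hg⟩ | ⟨E, h1, h2, h3⟩
  · exact S.out ⟨g, hg⟩
  · exact S.no_e16 E (fun a ha => h1 ha) h2 h3

theorem row_hs (h : Spor.IsoHS X) : False := by
  rcases OuterHS.e16 h S.hx S.out with h1 | ⟨E, h1, h2, h3⟩
  · have h4 := S.d8.not_dvd
    rw [h1 A S.comp] at h4
    exact h4 (by norm_num)
  · exact S.no_e16 E h1 h2 h3

/-- **The outer rows.** -/
theorem main (hsuz : Spor.IsoSuz X → False) (hfi : Spor.IsoFi22 X → False)
    (hhe : Spor.IsoHe X → ∀ (S' : Act ↥(fixedSubgroup x) (alternatingGroup (Fin 6))) (s : ↥(fixedSubgroup x)),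
      Six S' s → False)
    (h : IsSporadicGroup X ∨ Lie.IsoTits X) : SectionalPRankLE 2 4 X := by
  rcases h with h | h
  · rcases h with h | h | h | h | h | h | h | h | h | h | h | h | h | h | h | h | h | h | h | h | h | h | h | h | h | h
    · obtain ⟨e⟩ := h
      exact (S.no_out (CpAut.TwoInner.inner_congr e fun α => inner_of_out S2060.result α)).elim
    · exact (S.row_m12 h).elim
    · exact (S.row_m22 h).elim
    · obtain ⟨e⟩ := h
      exact (S.no_out (CpAut.TwoInner.inner_congr e fun α => inner_of_out S2063.result α)).elim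
    · obtain ⟨e⟩ := h
      exact (S.no_out (CpAut.TwoInner.inner_congr e fun α => inner_of_out S2064.result α)).elim
    · obtain ⟨e⟩ := h
      exact (S.no_out (CpAut.TwoInner.inner_congr e fun α => inner_of_out S2065.result α)).elim
    · exact S.of_six (S.q_j2 h) fun S' s hs => OuterJTwo.six h S.hxx S.out hs
    · exact S.row_j3 h
    · obtain ⟨e⟩ := h
      exact (S.no_out (CpAut.TwoInner.inner_congr e fun α => inner_of_out S2068.result α)).elim
    · obtain ⟨e⟩ := h
      exact (S.no_out (CpAut.TwoInner.inner_congr e fun α => inner_of_out S2069.result α)).elim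
    · obtain ⟨e⟩ := h
      exact (S.no_out (CpAut.TwoInner.inner_congr e fun α => inner_of_out S2070.result α)).elim
    · obtain ⟨e⟩ := h
      exact (S.no_out (CpAut.TwoInner.inner_congr e fun α => inner_of_out S2071.result α)).elim
    · exact S.of_six (S.q_mcl h) fun S' s hs => OuterMcL.six h S.out hs
    · exact (S.row_hs h).elim
    · exact (hsuz h).elim
    · exact S.of_six (S.q_he h) (hhe h)
    · obtain ⟨e⟩ := h
      exact (S.no_out (CpAut.TwoInner.inner_congr e fun α => inner_of_out S2077.result α)).elim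
    · exact (S.row_on h).elim
    · obtain ⟨e⟩ := h
      exact (S.no_out (CpAut.TwoInner.inner_congr e fun α => inner_of_out S2076.result α)).elim
    · exact (hfi h).elim
    · obtain ⟨e⟩ := h
      exact (S.no_out (CpAut.TwoInner.inner_congr e fun α => inner_of_out S2080.result α)).elim
    · exact (S.row_fi24 h).elim
    · exact S.of_six (S.q_hn h) fun S' s hs => H815.OuterHN.outer_hn h S.hxx S' s hs.ss fun p => by
        rw [hs.act, show (Equiv.swap (4 : Fin 6) 5)⁻¹ = Equiv.swap 4 5 from Equiv.swap_inv _ _]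
        rfl
    · obtain ⟨e⟩ := h
      exact (S.no_out (CpAut.TwoInner.inner_congr e fun α => inner_of_out S2083.result α)).elim
    · obtain ⟨e⟩ := h
      exact (S.no_out (CpAut.TwoInner.inner_congr e fun α => inner_of_out S2084.result α)).elim
    · obtain ⟨e⟩ := h
      exact (S.no_out (CpAut.TwoInner.inner_congr e fun α => inner_of_out S2085.result α)).elim
  · obtain ⟨g, hg⟩ := H246.TitsInner.inner_iso h x S.hxx
    exact (S.out ⟨g, hg⟩).elim

end Sit

end Cfsg.Agent.H300.SporOut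

private theorem dce_b19958acaad1 : _root_.True := by
  try have : _root_.True := by simp only [_root_.Cfsg.Agent.H300.SporOut.Sit.tst.eq_1]
  exact _root_.True.intro
end

-- part: H284/Main97
section
prune_inst 0x4c0200000012202000000001080001c4692000000000b00011160010204869e2200022720e8201a000802ab0400300040020000500000000020000000411800a0802a52068308a104260009009085100000000000000000000000000000041000000000000
set_option linter.all false
open scoped Cfsg.Agent.FastGrp

-- part: H284/Red97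
section
/-!
# Reduction for S3097 (helper284)

`red` : `O(G) = 1`, `A` standard, not normal: `E(G) ≃* A × A`, or `E(G) = F*(G)` is simple, nonabelian;
`cyc` : two commuting involutions do not centralize `A` if `C_G(A)` has cyclic Sylow 2-subgroups;
`no_inv` : if an involution outside of a normal subgroup `X` centralizes `A`, no involution of `X` centralizes `A`.
-/

set_option autoImplicit false

namespace Cfsg.Agent.H284.Red97

open Subgroup Cfsg Cfsg.Agent.SignalizersComponents Cfsg.Agent.SignalizersComponents.Components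

variable {G : Type*} [Group G] [Finite G] {A : Subgroup G}

omit [Finite G] in
/-- a product of commuting subgroups -/
theorem prod_equiv {E Y Z : Subgroup G} (hc : ∀ a ∈ Y, ∀ b ∈ Z, a * b = b * a) (hinf : Y ⊓ Z = ⊥) (hsup : Y ⊔ Z = E) :
    Nonempty (↥E ≃* ↥Y × ↥Z) := by
  let f : ↥Y × ↥Z →* G :=
    { toFun := fun p => (p.1 : G) * p.2
      map_one' := by
        change ((1 : ↥Y) : G) * ((1 : ↥Z) : G) = 1
        rw [coe_one, coe_one, mul_one]
      map_mul' := fun p q => by
        change ((p.1 * q.1 : ↥Y) : G) * ((p.2 * q.2 : ↥Z) : G) = (p.1 : G) * p.2 * ((q.1 : G) * q.2)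
        rw [coe_mul, coe_mul]
        have h1 := hc q.1 q.1.2 p.2 p.2.2
        calc (p.1 : G) * q.1 * (p.2 * q.2) = (p.1 : G) * (q.1 * p.2) * q.2 := by group
          _ = (p.1 : G) * (p.2 * q.1) * q.2 := by rw [h1]
          _ = (p.1 : G) * p.2 * ((q.1 : G) * q.2) := by group }
  have hf : Function.Injective f := by
    rw [injective_iff_map_eq_one]
    rintro ⟨a, b⟩ hab
    have h1 : (a : G) * b = 1 := hab
    have h2 : (a : G) ∈ Y ⊓ Z := by
      refine ⟨a.2, ?_⟩
      rw [eq_inv_of_mul_eq_one_left h1]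
      exact Z.inv_mem b.2
    rw [hinf, mem_bot] at h2
    rw [h2, one_mul] at h1
    exact Prod.ext (Subtype.ext h2) (Subtype.ext h1)
  have hr : f.range = E := by
    rw [← hsup]
    apply le_antisymm
    · rintro _ ⟨p, rfl⟩
      exact mul_mem (mem_sup_left p.1.2) (mem_sup_right p.2.2)
    · refine sup_le (fun y hy => ⟨(⟨y, hy⟩, 1), ?_⟩) (fun z hz => ⟨(1, ⟨z, hz⟩), ?_⟩)
      · change y * ((1 : ↥Z) : G) = y
        rw [coe_one, mul_one]
      · change ((1 : ↥Y) : G) * z = z
        rw [coe_one, one_mul]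
  exact ⟨((MonoidHom.ofInjective hf).trans (MulEquiv.subgroupCongr hr)).symm⟩

/-- **The reduction** -/
theorem red (hO : oddCore G = ⊥) (hA : IsStandardSubgroup A) (hn : ¬ A.Normal) :
    Nonempty (↥(layer G) ≃* ↥A × ↥A) ∨
      (A ≤ layer G ∧ IsSimpleGroup ↥(layer G) ∧ ¬ IsMulCommutative ↥(layer G) ∧
        generalizedFittingSubgroup G = layer G) := by
  obtain ⟨t, htA, ht⟩ := H295.StdRed.exists_inv hA
  have h2 : pCore 2 G = ⊥ := by
    by_contra h
    exact hn (StandardTrichotomy.normal_of_pCore_ne_bot hA ht htA h)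
  have hF : fittingSubgroup G = ⊥ := by
    have := CompOrbit.fittingSubgroup_le_pCore (p := 2) hO
    rw [h2] at this
    exact le_bot_iff.mp this
  have h3 : generalizedFittingSubgroup G = layer G := by
    show layer G ⊔ fittingSubgroup G = layer G
    rw [hF, sup_bot_eq]
  rcases S1347.result A hA hO t ht htA with h | ⟨Y, hY, hYn, ⟨e⟩, hcomm, hinf, hsup, -⟩ | ⟨h3', h4, h5⟩
  · exact absurd h hn
  · left
    obtain ⟨f⟩ := prod_equiv hcomm hinf hsup
    have e2 : ↥(Y.map (MulAut.conj t).toMonoidHom) ≃* ↥Y :=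
      (Y.equivMapOfInjective _ (MulAut.conj t).injective).symm
    exact ⟨f.trans (e.prodCongr (e2.trans e))⟩
  · right
    exact ⟨h3', h4, h5, h3⟩

/-- involutions of a cyclic group are equal -/
theorem eq_of_cyclic {S : Type*} [Group S] [IsCyclic S] [Finite S] {a b : S} (ha : orderOf a = 2) (hb : orderOf b = 2) :
    a = b := by
  classical
  have := Fintype.ofFinite S
  have hd : 2 ∣ Fintype.card S := by rw [← ha]; exact orderOf_dvd_card
  have h1 := IsCyclic.card_orderOf_eq_totient hd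
  rw [Nat.totient_two, Finset.card_eq_one] at h1
  obtain ⟨c, hc⟩ := h1
  have h2 : ∀ d : S, orderOf d = 2 → d = c := by
    intro d hd2
    have h3 : d ∈ ({c} : Finset S) := by
      rw [← hc, Finset.mem_filter]
      exact ⟨Finset.mem_univ _, hd2⟩
    exact Finset.mem_singleton.1 h3
  rw [h2 a ha, h2 b hb]

/-- the centralizer has cyclic Sylow 2-subgroups: commuting involutions coincide -/
theorem cyc (hR : ∀ R : Sylow 2 ↥(centralizer (A : Set G)), IsCyclic ↥(R : Subgroup ↥(centralizer (A : Set G))))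
    {s t : G} (hs : s ∈ centralizer (A : Set G)) (ht : t ∈ centralizer (A : Set G)) (hs2 : orderOf s = 2)
    (ht2 : orderOf t = 2) (hst : s * t = t * s) : s = t := by
  have : Fact (Nat.Prime 2) := ⟨Nat.prime_two⟩
  let C := centralizer (A : Set G)
  let s' : ↥C := ⟨s, hs⟩
  let t' : ↥C := ⟨t, ht⟩
  have hs2' : orderOf s' = 2 := by rw [← hs2, ← orderOf_coe]
  have ht2' : orderOf t' = 2 := by rw [← ht2, ← orderOf_coe]
  have hst' : Commute s' t' := Subtype.ext hst
  -- the group generated by `s'`, `t'`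
  let N : Subgroup ↥C := zpowers s' ⊔ zpowers t'
  have hN : IsPGroup 2 ↥N := by
    have h1 : IsPGroup 2 ↥(zpowers s') := IsPGroup.of_card (n := 1) (by rw [Nat.card_zpowers, hs2', pow_one])
    have h2 : IsPGroup 2 ↥(zpowers t') := IsPGroup.of_card (n := 1) (by rw [Nat.card_zpowers, ht2', pow_one])
    refine IsPGroup.to_sup_of_normal_right' h1 h2 ?_
    rw [zpowers_le, mem_normalizer_iff]
    intro y
    have key : ∀ k : ℤ, s' * t' ^ k * s'⁻¹ = t' ^ k := fun k => by
      rw [(hst'.zpow_right k).eq, mul_inv_cancel_right]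
    have hy' : s' * y * s'⁻¹ ∈ zpowers t' ↔ y ∈ zpowers t' := by
      constructor
      · intro hy
        obtain ⟨k, hk⟩ := mem_zpowers_iff.1 hy
        have h3 : y = t' ^ k := by
          calc y = s'⁻¹ * (s' * y * s'⁻¹) * s' := by group
            _ = s'⁻¹ * (t' ^ k) * s' := by rw [hk]
            _ = s'⁻¹ * (s' * t' ^ k * s'⁻¹) * s' := by rw [key k]
            _ = t' ^ k := by group
        rw [h3]
        exact mem_zpowers_iff.2 ⟨k, rfl⟩
      · intro hy
        obtain ⟨k, rfl⟩ := mem_zpowers_iff.1 hy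
        rw [key k]
        exact mem_zpowers_iff.2 ⟨k, rfl⟩
    exact hy'.symm
  obtain ⟨R, hNR⟩ := hN.exists_le_sylow
  have hc := hR R
  have hsR : s' ∈ (R : Subgroup ↥C) := hNR (mem_sup_left (mem_zpowers _))
  have htR : t' ∈ (R : Subgroup ↥C) := hNR (mem_sup_right (mem_zpowers _))
  have h5 := eq_of_cyclic (S := ↥(R : Subgroup ↥C)) (a := ⟨s', hsR⟩) (b := ⟨t', htR⟩)
    ((orderOf_mk _ _).trans hs2') ((orderOf_mk _ _).trans ht2')
  have h6 : s' = t' := congrArg Subtype.val h5
  exact congrArg Subtype.val h6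

end Cfsg.Agent.H284.Red97
end

-- part: H284/Sit97
section
/-!
# The situation of S3097 for simple `F*(G)` (helper284)

* `Sit x A` : `A` is a normal component of `C_X(x)`, its centralizer there has cyclic Sylow 2-subgroups, and odd order if
  `x` is outer;
* `sit_of` : from a standard subgroup `A ≤ X = F*(G)` with cyclic Sylow 2-subgroups of `C_G(A)`;
* `Sit.row_out` : `x` outer, `A/Z(A)` tight: sectional 2-rank at most 4;
* `tight_five` : `A₅` is tight.
-/

set_option autoImplicit false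

namespace Cfsg.Agent.H284.Sit97

open Subgroup Cfsg Cfsg.Agent.H284.FStd Cfsg.Agent.H300.D8Base Cfsg.Agent.H300.SporBase Cfsg.Agent.H300.KillLem

universe u v

/-- the situation -/
structure Sit {X : Type u} [Group X] (x : MulAut X) (A : Subgroup ↥(fixedSubgroup x)) : Prop where
  hxx : x * x = 1
  hx1 : x ≠ 1
  comp : IsComponent A
  norm : A.Normal
  cyc : ∀ R : Sylow 2 ↥(centralizer (A : Set ↥(fixedSubgroup x))),
    IsCyclic ↥(R : Subgroup ↥(centralizer (A : Set ↥(fixedSubgroup x))))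
  out : (¬ ∃ g, x = MulAut.conj g) → ∀ u : ↥(fixedSubgroup x), orderOf u = 2 → u ∉ centralizer (A : Set ↥(fixedSubgroup x))

/-- groups which embed into a group with cyclic Sylow 2-subgroups -/
theorem cyc_of_injective {C D : Type*} [Group C] [Group D] (f : C →* D) (hf : Function.Injective f)
    (hD : ∀ R : Sylow 2 D, IsCyclic ↥(R : Subgroup D)) (S : Sylow 2 C) : IsCyclic ↥(S : Subgroup C) := by
  obtain ⟨R, hR⟩ := (S.isPGroup'.map f).exists_le_sylow
  have := hD R
  let g : ↥(S : Subgroup C) →* ↥(R : Subgroup D) :=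
    (inclusion hR).comp ((S : Subgroup C).equivMapOfInjective f hf).toMonoidHom
  exact isCyclic_of_injective g ((inclusion_injective hR).comp (MulEquiv.injective _))

theorem sit_of {G : Type u} [Group G] [Finite G] {X A : Subgroup G} [hX : X.Normal] (hc : centralizer (X : Set G) = ⊥)
    (hA : IsStandardSubgroup A) (hAX : A ≤ X) {t : G} (ht : orderOf t = 2) (htA : t ∈ centralizer (A : Set G))
    (hR : ∀ R : Sylow 2 ↥(centralizer (A : Set G)), IsCyclic ↥(R : Subgroup ↥(centralizer (A : Set G)))) :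
    Sit (MulAut.conjNormal t : MulAut ↥X) (BB X A t) := by
  obtain ⟨h1, h2, h3⟩ := comp_fix hc hA hAX ht htA
  have hcen : ∀ u : ↥(fixedSubgroup (MulAut.conjNormal t : MulAut ↥X)),
      u ∈ centralizer (BB X A t : Set ↥(fixedSubgroup (MulAut.conjNormal t : MulAut ↥X))) →
        ((u : ↥X) : G) ∈ centralizer (A : Set G) := by
    intro u hu
    rw [mem_centralizer_iff]
    intro a ha
    have h5 := mem_centralizer_iff.1 hu ⟨⟨a, hAX ha⟩, le_fix htA (mem_subgroupOf.2 ha)⟩ ha
    exact congrArg (fun w : ↥(fixedSubgroup (MulAut.conjNormal t : MulAut ↥X)) => ((w : ↥X) : G)) h5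
  refine ⟨h1, h2, h3, ?_, ?_, ?_⟩
  · have h4 := SignalizersComponents.StandardTrichotomy.centralizer_involution_le hA ht htA
    constructor
    rintro ⟨⟨a, haX⟩, haf⟩ ha ⟨⟨g, hgX⟩, hgf⟩
    have h5 : g ∈ centralizer ({t} : Set G) := by
      rw [mem_centralizer_singleton_iff]
      exact (mem_fix.1 hgf).symm
    have h6 := h4 h5
    rw [mem_normalizer_iff] at h6
    exact (h6 a).1 ha
  · refine cyc_of_injective (D := ↥(centralizer (A : Set G)))
      { toFun := fun u => ⟨(((u : ↥(fixedSubgroup (MulAut.conjNormal t : MulAut ↥X))) : ↥X) : G), hcen u u.2⟩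
        map_one' := rfl
        map_mul' := fun _ _ => rfl } ?_ hR
    intro u v huv
    have h5 : (((u : ↥(fixedSubgroup (MulAut.conjNormal t : MulAut ↥X))) : ↥X) : G) =
      (((v : ↥(fixedSubgroup (MulAut.conjNormal t : MulAut ↥X))) : ↥X) : G) :=
      congrArg (fun w : ↥(centralizer (A : Set G)) => (w : G)) huv
    exact Subtype.ext (Subtype.ext (Subtype.ext h5))
  · intro hout u hu huA
    have h5 : ((u : ↥X) : G) = t := by
      refine Red97.cyc hR (hcen u huA) htA ?_ ht ?_
      · rw [orderOf_coe, orderOf_coe, hu]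
      · exact (mem_fix.1 u.2).symm
    apply hout
    refine ⟨(u : ↥X), ?_⟩
    ext y
    rw [MulAut.conj_apply, MulAut.conjNormal_apply]
    simp only [coe_mul, InvMemClass.coe_inv, h5]

section sit

variable {X : Type u} [Group X] [Finite X] {x : MulAut X} {A : Subgroup ↥(fixedSubgroup x)} (S : Sit x A)

include S

theorem Sit.cyc2 {s t : ↥(fixedSubgroup x)} (hs : s ∈ centralizer (A : Set ↥(fixedSubgroup x)))
    (ht : t ∈ centralizer (A : Set ↥(fixedSubgroup x))) (hs2 : orderOf s = 2) (ht2 : orderOf t = 2)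
    (hst : s * t = t * s) : s = t :=
  Red97.cyc S.cyc hs ht hs2 ht2 hst

omit [Finite X] in
theorem Sit.orderOf_eq : orderOf x = 2 := orderOf_eq_prime (by rw [pow_two, S.hxx]) S.hx1

omit [Finite X] in
/-- the involution of an inner `x` -/
theorem Sit.inner_mem (hc : center X = ⊥) {z : X} (hz : x = MulAut.conj z) :
    orderOf z = 2 ∧ ∃ hzf : z ∈ fixedSubgroup x, (⟨z, hzf⟩ : ↥(fixedSubgroup x)) ∈
      centralizer (A : Set ↥(fixedSubgroup x)) := by
  have h1 : z * z = 1 := by
    have h2 : z * z ∈ center X := by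
      rw [mem_center_iff]
      intro g
      have h3 := congrArg (fun f : MulAut X => f g) S.hxx
      simp only [hz, MulAut.mul_apply, MulAut.conj_apply, MulAut.one_apply] at h3
      calc g * (z * z) = (z * (z * g * z⁻¹) * z⁻¹) * (z * z) := by rw [h3]
        _ = z * z * g := by group
    rwa [hc, mem_bot] at h2
  have h2 : z ≠ 1 := by
    intro h
    apply S.hx1
    rw [hz, h, map_one]
  have hzf : z ∈ fixedSubgroup x := by
    change x z = z
    rw [hz, MulAut.conj_apply, mul_inv_cancel_right]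
  refine ⟨orderOf_eq_prime (by rw [pow_two, h1]) h2, hzf, ?_⟩
  rw [mem_centralizer_iff]
  intro a _
  apply Subtype.ext
  have h3 : ∀ c : X, x c = c → c * z = z * c := by
    intro c hc
    rw [hz, MulAut.conj_apply, mul_inv_eq_iff_eq_mul] at hc
    exact hc.symm
  exact h3 a a.2

omit [Finite X] S in
theorem Sit.fix_eq {z : X} (hz : x = MulAut.conj z) : fixedSubgroup x = centralizer ({z} : Set X) := by
  ext g
  rw [mem_centralizer_singleton_iff]
  change x g = g ↔ _
  rw [hz, MulAut.conj_apply, mul_inv_eq_iff_eq_mul]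
  exact eq_comm

omit [Finite X] in
/-- `A` as a component of the centralizer of an involution -/
theorem Sit.comp_inner {z : X} (hz : x = MulAut.conj z) :
    IsComponentOf (A.map (fixedSubgroup x).subtype) (centralizer ({z} : Set X)) := by
  have h1 := Sit.fix_eq hz
  rw [← h1]
  refine ⟨map_subtype_le A, ?_⟩
  have h2 : (A.map (fixedSubgroup x).subtype).subgroupOf (fixedSubgroup x) = A :=
    comap_map_eq_self_of_injective (fixedSubgroup x).subtype_injective A
  rw [h2]
  exact S.comp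

theorem Sit.row_out (hout : ¬ ∃ g, x = MulAut.conj g) {P : Type v} [Group P] [Finite P] (hP : Tight P)
    (e : ↥A ⧸ center ↥A ≃* P) : SectionalPRankLE 2 4 X :=
  rank_of_tight S.hxx S.hx1 (ofComp S.norm S.comp.2 e (S.out hout)) hP

end sit

section five

open Equiv H284.RankFix

/-- **`A₅` is tight** -/
theorem tight_five : Tight ↥(alternatingGroup (Fin 5)) := by
  let a : ↥(alternatingGroup (Fin 5)) := ⟨pa, pa_mem⟩
  let b : ↥(alternatingGroup (Fin 5)) := ⟨pb, pb_mem⟩
  have ha : a * a = 1 := Subtype.ext pa_sq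
  have hb : b * b = 1 := Subtype.ext pb_sq
  have hab : a * b = b * a := Subtype.ext pab
  have ha1 : a ≠ 1 := fun h => pa_ne (congrArg Subtype.val h)
  have hb1 : b ≠ 1 := fun h => pb_ne (congrArg Subtype.val h)
  have hne : a ≠ b := fun h => pa_ne_pb (congrArg Subtype.val h)
  refine ⟨four a b ha hb hab, comm_four, sq_four, card_four ha hb hab ha1 hb1 hne, ?_⟩
  intro y hy
  obtain ⟨σ, hσ⟩ := AltComp.exists_conj le_rfl y (fun h => by omega)
  have h1 : σ * pa = pa * σ := by
    have h2 := hσ a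
    rw [hy a (Or.inr (Or.inl rfl))] at h2
    exact (eq_mul_inv_iff_mul_eq.1 h2).symm
  have h3 : σ * pb = pb * σ := by
    have h2 := hσ b
    rw [hy b (Or.inr (Or.inr (Or.inl rfl)))] at h2
    exact (eq_mul_inv_iff_mul_eq.1 h2).symm
  have key : ∀ c : ↥(alternatingGroup (Fin 5)), (c : Perm (Fin 5)) = σ → y = MulAut.conj c := by
    intro c hc
    ext g : 2
    rw [hσ, MulAut.conj_apply, coe_mul, coe_mul, InvMemClass.coe_inv, hc]
  rcases cent_five σ h1 h3 with h | h | h | h
  · exact ⟨1, one_mem _, key 1 (by rw [h]; rfl)⟩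
  · exact ⟨a, Or.inr (Or.inl rfl), key a h.symm⟩
  · exact ⟨b, Or.inr (Or.inr (Or.inl rfl)), key b h.symm⟩
  · exact ⟨a * b, Or.inr (Or.inr (Or.inr rfl)), key (a * b) (by rw [h]; rfl)⟩

end five

end Cfsg.Agent.H284.Sit97
end

-- part: H284/FiveRow
section
/-!
# The rows of S3097 with `A = A₅` (helper284)

`Sit x A`, `A ≅ A₅`, `X` a known simple group: `X` has sectional 2-rank at most four.
-/

set_option autoImplicit false
set_option linter.unusedSectionVars false

namespace Cfsg.Agent.H284.FiveRow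

open Subgroup Cfsg
open Cfsg.Agent.CTwoTab
open Cfsg.Agent.CpAut
open Cfsg.Agent.SignalizersComponents.Components
open Cfsg.Agent.H287 Cfsg.Agent.NotCT Cfsg.Agent.H291 Cfsg.Agent.H291.RowsI

universe u v

section jtwo

open Cfsg.Agent.J2Type.Model Cfsg.Agent.J2Type.SPFacts Cfsg.Agent.J2Type.CStruct
open Cfsg.Agent.J3Type.OneClass Cfsg.Agent.J2Type.Base Cfsg.Agent.KFacts.J2.Basic
open Cfsg.Agent.Co2Type.Quad Cfsg.Agent.KFacts.AutLarge Cfsg.Agent.KFacts.J3Sheet
open Cfsg.Agent.KFacts Cfsg.Agent.OddHalf.D4.Spor Cfsg.Agent.OddHalf.D4.Spor.JTwo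

/-- `J₂`: a four-group centralizing a component -/
theorem j2_four {X : Type u} [Group X] [Finite X] (h : Spor.IsoJ2 X) {z : X} (hz : orderOf z = 2) {K : Subgroup X}
    (hK : IsComponentOf K (centralizer ({z} : Set X))) : ∃ a b : X, a * z = z * a ∧ b * z = z * b ∧
      a ∈ centralizer (K : Set X) ∧ b ∈ centralizer (K : Set X) ∧ orderOf a = 2 ∧ orderOf b = 2 ∧ a ≠ b ∧
      a * b = b * a := by
  obtain ⟨t, u, Q, v, ρ, D⟩ := Cfsg.Agent.KFacts.J2.Facts.exists_dat_of h
  have key : ∀ s c : X, z = c * s * c⁻¹ →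
      IsComponentOf (K.map (MulAut.conj c⁻¹).toMonoidHom) (centralizer ({s} : Set X)) := by
    intro s c hc
    have h1 := CTwoTab.isComponentOf_map (MulAut.conj c⁻¹) hK
    rw [map_centralizer_singleton] at h1
    rw [MulAut.conj_apply] at h1
    have h2 : c⁻¹ * z * c⁻¹⁻¹ = s := by rw [hc]; group
    rw [h2] at h1
    exact h1
  rcases D.F.cover z hz with h | h
  · exfalso
    obtain ⟨c, hc⟩ := isConj_iff.1 h
    have hL := large D.cardC D.M
    have S := QMinus.sheet D.cardC D.M
    have : Fact (Nat.Prime 2) := ⟨Nat.prime_two⟩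
    refine no_comp_of_pGroup (p := 2) (R := Q.map (centralizer ({t} : Set X)).subtype) (map_subtype_le _) ?_ ?_ ?_ _
      (key t c hc.symm)
    · intro c hc r hr
      exact hL.conj_mem c (mem_cent.1 hc) r hr
    · rw [IsPGroup.iff_card]
      exact ⟨5, by rw [S.card]; norm_num⟩
    · intro c _ h
      rcases cen_Q D h with rfl | rfl
      · exact one_mem _
      · exact t_mem_Q D
  · obtain ⟨c, hc⟩ := isConj_iff.1 h
    obtain ⟨f, U, V, H0, F⟩ := Cfsg.Agent.J2Type.CentU.main D.F
    obtain ⟨e⟩ := equiv_H0 D F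
    have h1 : K.map (MulAut.conj c⁻¹).toMonoidHom = H0 := comp_eq (quasi_alt le_rfl e) F.str.le
      (fun P hP hperf => perfect_le_of_sq (fun a ha => F.str.sq_mem a ha) P hP hperf) (key u c hc.symm)
    have h60 : Nat.card ↥H0 = 60 := (cards_alt le_rfl e).1
    obtain ⟨a, b, ha, hb, ha1, hb1, hne, -⟩ := H300.KillLem.exists_gens F.cardV
      (fun a ha => J2Type.Cent5.sq_V D.F F ha) (fun a ha b hb => J2Type.Cent5.comm_V D.F F ha hb)
    have hcen : ∀ g : X, g ∈ V → (c * g * c⁻¹) * z = z * (c * g * c⁻¹) ∧ c * g * c⁻¹ ∈ centralizer (K : Set X) ∧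
        (g ≠ 1 → orderOf (c * g * c⁻¹) = 2) := by
      intro g hg
      refine ⟨?_, ?_, ?_⟩
      · have h3 : g * u = u * g := ((F.memV g).1 hg).2.1
        rw [← hc]
        calc c * g * c⁻¹ * (c * u * c⁻¹) = c * (g * u) * c⁻¹ := by group
          _ = c * (u * g) * c⁻¹ := by rw [h3]
          _ = c * u * c⁻¹ * (c * g * c⁻¹) := by group
      · rw [mem_centralizer_iff]
        intro k hk
        have h3 : c⁻¹ * k * c ∈ H0 := by
          rw [← h1]
          refine ⟨k, hk, ?_⟩
          change c⁻¹ * k * c⁻¹⁻¹ = _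
          rw [inv_inv]
        have h4 := J2Type.Cent5.V_comm D.F F h60 hg h3
        calc k * (c * g * c⁻¹) = c * ((c⁻¹ * k * c) * g) * c⁻¹ := by group
          _ = c * (g * (c⁻¹ * k * c)) * c⁻¹ := by rw [h4]
          _ = c * g * c⁻¹ * k := by group
      · intro hg1
        have h3 : orderOf (c * g * c⁻¹) = orderOf g := orderOf_injective (MulAut.conj c).toMonoidHom
          (MulAut.conj c).injective g
        rw [h3]
        exact orderOf_eq_prime (by rw [pow_two]; exact J2Type.Cent5.sq_V D.F F hg) hg1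
    refine ⟨c * a * c⁻¹, c * b * c⁻¹, (hcen a ha).1, (hcen b hb).1, (hcen a ha).2.1, (hcen b hb).2.1,
      (hcen a ha).2.2 ha1, (hcen b hb).2.2 hb1, ?_, ?_⟩
    · intro h3
      exact hne (mul_left_cancel (mul_right_cancel h3))
    · have h3 := J2Type.Cent5.comm_V D.F F ha hb
      calc c * a * c⁻¹ * (c * b * c⁻¹) = c * (a * b) * c⁻¹ := by group
        _ = c * (b * a) * c⁻¹ := by rw [h3]
        _ = c * b * c⁻¹ * (c * a * c⁻¹) := by group

end jtwo

section inner

variable {X : Type u} [Group X] [Finite X] {z : X} {K : Subgroup X}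

theorem row_of {S : ℕ → ℕ → Prop} (h : CompCard S X) (hS : ∀ a b, S a b → a = 60 → False)
    (hz : orderOf z = 2) (hK : IsComponentOf K (centralizer ({z} : Set X))) (hD : Nat.card ↥K = 60) : False :=
  hS _ _ (h z hz K hK) hD

theorem row_fix {S : ℕ → ℕ → Prop} (hc : center X = ⊥) (h : FixCard S X) (hS : ∀ a b, S a b → a = 60 → False)
    (hz : orderOf z = 2) (hK : IsComponentOf K (centralizer ({z} : Set X))) (hD : Nat.card ↥K = 60) : False :=
  row_of (h.compCard hc) hS hz hK hD

theorem row_b (h : Spor.IsoB X) (hz : orderOf z = 2) (hK : IsComponentOf K (centralizer ({z} : Set X)))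
    (e : ↥K ≃* ↥(alternatingGroup (Fin 5))) : False := by
  obtain ⟨K4, _, _, hK4⟩ := BabyTab.exists_field
  obtain ⟨f⟩ := h
  have h1 := CTwoTab.isComponentOf_map f hK
  rw [map_centralizer_singleton] at h1
  have h2 := (BabyTab.table K4 hK4 (f z) (by rw [MulEquiv.orderOf_eq, hz]) _ h1).congr (subMap f K).symm
  have : Finite (Lie.twistedE6 K4 2) := Nat.finite_of_card_ne_zero (by rw [BabyTab.card_E K4 hK4]; norm_num)
  have hE : center (Lie.twistedE6 K4 2) = ⊥ := CpAut.TwoInner.center_eq_bot_of_card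
    (MonsterN.EInst.isSimple K4 hK4) (by rw [BabyTab.card_E K4 hK4]; norm_num)
  obtain ⟨hK60, -⟩ := cards_alt le_rfl e
  have hKc : Nat.card ↥K = 60 := hK60
  have hcen : center ↥K = ⊥ := by
    have : IsSimpleGroup ↥K := simple_alt le_rfl e
    exact CTwoTab.center_eq_bot_of_simple (na_alt le_rfl e)
  have e' : ↥K ⧸ center ↥K ≃* ↥(alternatingGroup (Fin 5)) :=
    ((QuotientGroup.quotientMulEquivOfEq hcen).trans QuotientGroup.quotientBot).trans e
  have h4 := h2.cases hE e'
  rw [BabyTab.card_E K4 hK4] at h4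
  rcases h4 with h4 | ⟨h4, h5⟩
  · rw [← Nat.card_congr e.toEquiv, hKc] at h4
    norm_num at h4
  · have h10 : Nat.card (MulAut ↥(alternatingGroup (Fin 5))) = (5 : ℕ).factorial := by
      rw [← Nat.card_congr (Equiv.ofBijective _ (S2119.result 5 (by omega) (by omega))), Nat.card_perm, Nat.card_fin]
    rw [h10] at h5
    revert h5
    decide

/-- **The components `A₅` of the centralizers of inner involutions.** -/
theorem inner_five [IsSimpleGroup X] (h : IsSporadicGroup X) (hz : orderOf z = 2)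
    (hK : IsComponentOf K (centralizer ({z} : Set X))) (e : ↥K ≃* ↥(alternatingGroup (Fin 5))) :
    Spor.IsoM12 X ∨ Spor.IsoJ1 X ∨ Spor.IsoJ2 X := by
  have hD : Nat.card ↥K = 60 := (cards_alt le_rfl e).1
  have hc : center X = ⊥ := by
    refine CpAut.TwoInner.center_eq_bot_of_card inferInstance ?_
    intro hp
    have h1 : Nat.card ↥K ∣ Nat.card X := card_subgroup_dvd_card K
    rw [hD] at h1
    have h2 : 2 ∣ Nat.card X := (by norm_num : 2 ∣ 60).trans h1
    have h4 := (Nat.prime_dvd_prime_iff_eq Nat.prime_two hp).1 h2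
    rw [← h4] at h1
    norm_num at h1
  rcases h with h | h | h | h | h | h | h | h | h | h | h | h | h | h | h | h | h | h | h | h | h | h | h | h | h | h
  · exact (row_fix hc (fix_m11 h) (fun _ _ h => h.elim) hz hK hD).elim
  · exact Or.inl h
  · exact (row_of (compCard_m22 h) (fun _ _ h => h.elim) hz hK hD).elim
  · exact (row_fix hc (fix_m23 h) (fun _ _ h => h.elim) hz hK hD).elim
  · exact (row_fix hc (fix_m24 h) (fun _ _ h => h.elim) hz hK hD).elim
  · exact Or.inr (Or.inl h)
  · exact Or.inr (Or.inr h)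
  · exact (row_of (compCard_j3 h) (fun _ _ h => h.elim) hz hK hD).elim
  · exact (row_fix hc (fix_j4 h) (fun _ _ h => h.elim) hz hK hD).elim
  · exact (row_fix hc (fix_co1 h) (fun a b h _ => by omega) hz hK hD).elim
  · exact (row_fix hc (fix_co2 h) (fun _ _ h => h.elim) hz hK hD).elim
  · exact (row_fix hc (fix_co3 h) (fun a b h hab => by omega) hz hK hD).elim
  · exact (row_of (TwoAlt.compCard_mcl h) (fun a b h hab => by omega) hz hK hD).elim
  · exact (row_of (compCard_hs h) (fun a b h hab => by omega) hz hK hD).elim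
  · exact (row_of (compCard_suz h) (fun a b h hab => by omega) hz hK hD).elim
  · exact (row_of (compCard_he h) (fun a b h hab => by omega) hz hK hD).elim
  · exact (row_of (compCard_ru h) (fun a b h _ => by omega) hz hK hD).elim
  · exact (row_of (InnON.compCard h) (fun a b h hab => by omega) hz hK hD).elim
  · exact (row_of (TwoAlt.compCard_ly h) (fun a b h hab => by omega) hz hK hD).elim
  · exact (row_of (compCard_fi22 h) (fun a b h hab => by omega) hz hK hD).elim
  · exact (row_fix hc (fix_fi23 h) (fun a b h hab => by omega) hz hK hD).elim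
  · exact (row_of (compCard_fi24 h) (fun a b h hab => by omega) hz hK hD).elim
  · exact (row_of (compCard_hn h) (fun a b h hab => by omega) hz hK hD).elim
  · exact (row_fix hc (fix_th h) (fun _ _ h => h.elim) hz hK hD).elim
  · exact (row_b h hz hK e).elim
  · exact (row_fix hc (fix_m h) (fun a b h hab => by omega) hz hK hD).elim

end inner

section row

open Cfsg.Agent.H284.Sit97

variable {X : Type u} [Group X] [Finite X] [hs : IsSimpleGroup X] {x : MulAut X} {A : Subgroup ↥(fixedSubgroup x)}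

theorem quot_five (e : ↥A ≃* ↥(alternatingGroup (Fin 5))) :
    Nonempty (↥A ⧸ center ↥A ≃* ↥(alternatingGroup (Fin 5))) ∧ center ↥A = ⊥ := by
  have hcen : center ↥A = ⊥ := by
    have : IsSimpleGroup ↥A := simple_alt le_rfl e
    exact CTwoTab.center_eq_bot_of_simple (na_alt le_rfl e)
  exact ⟨⟨((QuotientGroup.quotientMulEquivOfEq hcen).trans QuotientGroup.quotientBot).trans e⟩, hcen⟩

/-- the sporadic groups -/
theorem row_spor (S : Sit x A) (e : ↥A ≃* ↥(alternatingGroup (Fin 5))) (h : IsSporadicGroup X) (hc : center X = ⊥) :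
    SectionalPRankLE 2 4 X := by
  obtain ⟨⟨e'⟩, hcA⟩ := quot_five e
  by_cases hout : ∃ g, x = MulAut.conj g
  · obtain ⟨z, hz⟩ := hout
    obtain ⟨hz2, hzf, hzA⟩ := S.inner_mem hc hz
    have hK := S.comp_inner hz
    have eK : ↥(A.map (fixedSubgroup x).subtype) ≃* ↥(alternatingGroup (Fin 5)) :=
      (A.equivMapOfInjective _ (fixedSubgroup x).subtype_injective).symm.trans e
    rcases inner_five h hz2 hK eK with h | h | h
    · exact M12Rank.rank_m12 h
    · refine H815.RankG2.rank_of_not_dvd ?_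
      rw [NotCT.Orders.j1 h]
      norm_num
    · exfalso
      obtain ⟨a, b, haz, hbz, ha, hb, ha2, hb2, hne, hab⟩ := j2_four h hz2 hK
      have hfe := Sit.fix_eq hz
      have haf : a ∈ fixedSubgroup x := by rw [hfe]; exact mem_centralizer_singleton_iff.2 haz
      have hbf : b ∈ fixedSubgroup x := by rw [hfe]; exact mem_centralizer_singleton_iff.2 hbz
      have hcen : ∀ g : X, ∀ hg : g ∈ fixedSubgroup x, g ∈ centralizer ((A.map (fixedSubgroup x).subtype : Subgroup X) : Set X) →
          (⟨g, hg⟩ : ↥(fixedSubgroup x)) ∈ centralizer (A : Set ↥(fixedSubgroup x)) := by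
        intro g hg hgc
        rw [mem_centralizer_iff]
        intro k hk
        exact Subtype.ext (mem_centralizer_iff.1 hgc (k : X) ⟨k, hk, rfl⟩)
      have h3 := S.cyc2 (hcen a haf ha) (hcen b hbf hb) ((orderOf_mk _ _).trans ha2) ((orderOf_mk _ _).trans hb2)
        (Subtype.ext hab)
      exact hne (congrArg Subtype.val h3)
  · exact S.row_out hout tight_five e'

/-- **The rows `A = A₅`.** -/
theorem row (S : Sit x A) (e : ↥A ≃* ↥(alternatingGroup (Fin 5))) (hna : ¬ IsMulCommutative X)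
    (hk : IsKnownSimple' X)
    (hodd : ∀ p : ℕ, p.Prime → p ≠ 2 → IsLieTypeChar p X → H286.Row.Row p X) : SectionalPRankLE 2 4 X := by
  have hc : center X = ⊥ := CTwoTab.center_eq_bot_of_simple hna
  obtain ⟨⟨e'⟩, hcA⟩ := quot_five e
  rcases OddHalf.Known.classify hna hk with ⟨m, hm, ⟨f⟩⟩ | ⟨p, hp, hp2, h1⟩ | h1 | h1
  · obtain ⟨n, k, hn, hk1, hmn, ⟨g⟩, -, hfour⟩ := AltComp.table hm f S.hxx S.hx1 S.comp
    have hn5 : n = 5 := AltRow.deg_eq hn le_rfl (g.symm.trans e)
    by_cases hk2 : 2 ≤ k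
    · exfalso
      obtain ⟨a, b, ha, hb, ha2, hb2, hab, hcab⟩ := hfour hk2
      exact hab (S.cyc2 ha hb ha2 hb2 hcab)
    · have hm7 : m = 7 := by omega
      subst hm7
      refine H815.RankG2.rank_of_not_dvd ?_
      rw [Nat.card_congr f.toEquiv, nat_card_alternatingGroup, Nat.card_fin]
      decide
  · have : Fact p.Prime := ⟨hp⟩
    have : Fact (Nat.Prime 5) := ⟨by norm_num⟩
    obtain ⟨g⟩ := S0253.result (F := ZMod 5) (ZMod.card 5)
    refine H286.KillL.main_cyclic hp2 (hodd p hp hp2 h1) S.norm S.comp.2 (e'.trans g.symm) S.cyc (fun y => ?_) S.hx1 ?_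
      (H286.KillL.dih_l2_five (ZMod.card 5))
    · exact congrArg (fun f : MulAut X => f y) S.hxx
    · rw [hcA, card_bot]
      exact odd_one
  · have hact : CharTwoComp.ACT X := fun _ hu => EvenType.CharTwoCent.char2_centralizer (EvenType.ChevTwo.charTwo hna
      (h1.elim Or.inl fun h => Or.inr (Or.inl ⟨rfl, Or.inr (Or.inr h)⟩))) hu
    obtain ⟨-, h2, h3, -⟩ := CharTwoComp.of_fix hact S.hxx S.comp
    exact RankFix.rank_a5 S.hxx S.hx1 h2 h3 e
  · exact row_spor S e h1 hc

end row

end Cfsg.Agent.H284.FiveRow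
end

-- part: H284/SixRow97
section
/-!
# The rows of S3097 with `A/Z(A) = A₆` (helper284)

`Sit x A`, `A/Z(A) ≅ A₆`, `|Z(A)|` odd, `X` a known simple group.
-/

set_option autoImplicit false
set_option linter.unusedSectionVars false

namespace Cfsg.Agent.H284.SixRow97

open Subgroup Cfsg
open Cfsg.Agent.H300.D8Base Cfsg.Agent.H300.SporBase Cfsg.Agent.H300.SixRow Cfsg.Agent.H300.KillLem
open Cfsg.Agent.H284.Sit97

universe u v

/-- quotients by odd normal subgroups: the Sylow 2-subgroups do not change -/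
theorem d8_of_quot {A : Type u} [Group A] [Finite A] {P : Type v} [Group P] (f : A →* P) (hf : Function.Surjective f)
    (hk : Odd (Nat.card ↥f.ker)) (h : D8 P) : D8 A := by
  have : Fact (Nat.Prime 2) := ⟨Nat.prime_two⟩
  intro S
  have hfin : Finite P := Finite.of_surjective f hf
  -- the image is a Sylow subgroup
  have hinj : Function.Injective (f.comp (S : Subgroup A).subtype) := by
    rw [injective_iff_map_eq_one]
    intro s hs
    have h1 : (s : A) ∈ f.ker := hs
    obtain ⟨k, hk2⟩ := S.isPGroup' s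
    have h2 : orderOf (s : A) ∣ 2 ^ k := by
      apply orderOf_dvd_of_pow_eq_one
      exact congrArg Subtype.val hk2
    have h3 : orderOf (s : A) ∣ Nat.card ↥f.ker := by
      rw [← orderOf_mk (s : A) h1]
      exact _root_.orderOf_dvd_natCard _
    have h4 : (Nat.card ↥f.ker).Coprime (2 ^ k) := (Nat.coprime_two_right.2 hk).pow_right k
    have h5 := Nat.eq_one_of_dvd_coprimes h4 h3 h2
    exact Subtype.ext (orderOf_eq_one_iff.1 h5)
  have hp : IsPGroup 2 ↥((S : Subgroup A).map f) := S.isPGroup'.map f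
  have hidx : ¬ 2 ∣ ((S : Subgroup A).map f).index := by
    intro h2
    exact S.not_dvd_index (h2.trans (Subgroup.index_map_dvd (S : Subgroup A) hf))
  let T : Sylow 2 P := hp.toSylow hidx
  obtain ⟨e⟩ := h T
  have e1 : ↥(S : Subgroup A) ≃* ↥(f.comp (S : Subgroup A).subtype).range := MonoidHom.ofInjective hinj
  have e2 : (f.comp (S : Subgroup A).subtype).range = (T : Subgroup P) := by
    rw [MonoidHom.range_comp, range_subtype]
    rfl
  exact ⟨(e1.trans (MulEquiv.subgroupCongr e2)).trans e⟩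

/-- `A₆` -/
theorem d8_six : D8 ↥(alternatingGroup (Fin 6)) := by
  obtain ⟨F, i1, i2, hF⟩ : ∃ (F : Type) (_ : Field F) (_ : Fintype F), Fintype.card F = 9 := by
    have : Fact (Nat.Prime 3) := ⟨Nat.prime_three⟩
    refine ⟨GaloisField 3 2, inferInstance, Fintype.ofFinite _, ?_⟩
    rw [← Nat.card_eq_fintype_card, GaloisField.card 3 2 (by norm_num)]
    norm_num
  obtain ⟨g⟩ := S0254.result hF
  refine D8.congr g ?_
  intro S
  obtain ⟨k, hk, ⟨e⟩⟩ := H991.psl2_dihedral (by rw [hF]; decide) S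
  have : Fact (Nat.Prime 2) := ⟨Nat.prime_two⟩
  have hcard : Nat.card (Matrix.ProjectiveSpecialLinearGroup (Fin 2) F) = 360 := by
    rw [Nat.card_congr g.toEquiv, nat_card_alternatingGroup, Nat.card_fin]
    decide
  have : Finite (Matrix.ProjectiveSpecialLinearGroup (Fin 2) F) := Nat.finite_of_card_ne_zero (by rw [hcard]; norm_num)
  have h1 : Nat.card ↥(S : Subgroup (Matrix.ProjectiveSpecialLinearGroup (Fin 2) F)) = 8 := by
    rw [S.card_eq_multiplicity, hcard]
    have h2 : (360 : ℕ).factorization 2 = 3 := by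
      rw [show (360 : ℕ) = 2 ^ 3 * 45 by norm_num, Nat.factorization_mul (by norm_num) (by norm_num),
        Nat.factorization_pow, Finsupp.add_apply, Finsupp.smul_apply, Nat.Prime.factorization_self Nat.prime_two,
        Nat.factorization_eq_zero_of_not_dvd (by norm_num : ¬ 2 ∣ 45)]
      rfl
    rw [h2]
    norm_num
  rw [Nat.card_congr e.toEquiv, DihedralGroup.nat_card] at h1
  have hk2 : k = 2 := by
    have h3 : 2 ^ k = 2 ^ 2 := by omega
    exact Nat.pow_right_injective le_rfl h3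
  subst hk2
  exact ⟨e⟩

section row

variable {X : Type u} [Group X] [Finite X] [hs : IsSimpleGroup X] {x : MulAut X} {A : Subgroup ↥(fixedSubgroup x)}

/-- the conclusion for `n = 6` -/
def Concl (X : Type u) [Group X] : Prop :=
  SectionalPRankLE 2 4 X ∨
    (∃ (F : Type) (_ : Field F) (_ : Fintype F), Fintype.card F = 4 ∧ Nonempty (X ≃* PSp 2 F)) ∨
    (∃ (F : Type) (_ : Field F) (_ : Fintype F), Fintype.card F = 2 ∧
      Nonempty (X ≃* Matrix.ProjectiveSpecialLinearGroup (Fin 5) F)) ∨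
    (∃ (F : Type) (_ : Field F) (_ : Fintype F), Fintype.card F = 4 ∧ Nonempty (X ≃* PSU 5 F 2)) ∨
    Spor.IsoHS X

/-- **The outer rows for the sporadic groups.** -/
theorem spor_out (S : Sit x A) (hZ : Odd (Nat.card ↥(center ↥A))) (e : ↥A ⧸ center ↥A ≃* ↥(alternatingGroup (Fin 6)))
    (hD : D8 ↥A) (hout : ¬ ∃ g, x = MulAut.conj g) (h1 : IsSporadicGroup X ∨ Lie.IsoTits X) :
    SectionalPRankLE 2 4 X := by
  obtain ⟨F, i1, i2, hF⟩ : ∃ (F : Type) (_ : Field F) (_ : Fintype F), Fintype.card F = 9 := by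
    have : Fact (Nat.Prime 3) := ⟨Nat.prime_three⟩
    refine ⟨GaloisField 3 2, inferInstance, Fintype.ofFinite _, ?_⟩
    rw [← Nat.card_eq_fintype_card, GaloisField.card 3 2 (by norm_num)]
    norm_num
  obtain ⟨g⟩ := S0254.result hF
  have T : H300.SporOut.Sit x A F :=
    { hx := S.orderOf_eq
      out := hout
      comp := S.comp
      norm := S.norm
      d8 := hD
      odd := hZ
      hF := by rw [hF]; decide
      h3 := by rw [hF]; norm_num
      e := e.trans g.symm
      ho := S.out hout }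
  refine T.main (fun h => T.no_64 (H287.dvd_suz h T.hx T.out)) (fun h => ?_)
    (fun h S' s _ => H815.OuterHe.outer_he h S.hxx S') h1
  obtain ⟨E, h2, -, h3, h4⟩ := H287.elem_fi22 h T.hx
  exact T.no_e16 E h2 h3 h4

/-- **The rows `A/Z(A) = A₆`.** -/
theorem row (S : Sit x A) (hZ : Odd (Nat.card ↥(center ↥A))) (e : ↥A ⧸ center ↥A ≃* ↥(alternatingGroup (Fin 6)))
    (hna : ¬ IsMulCommutative X) (hk : IsKnownSimple' X)
    (hodd : ∀ p : ℕ, p.Prime → p ≠ 2 → IsLieTypeChar p X → H286.Row.Row p X) : Concl X := by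
  have hc : center X = ⊥ := CTwoTab.center_eq_bot_of_simple hna
  have hD : D8 ↥A := by
    refine d8_of_quot (e.toMonoidHom.comp (QuotientGroup.mk' (center ↥A)))
      (e.surjective.comp (QuotientGroup.mk'_surjective _)) ?_ d8_six
    have h1 : (e.toMonoidHom.comp (QuotientGroup.mk' (center ↥A))).ker = center ↥A := by
      ext a
      rw [MonoidHom.mem_ker, MonoidHom.comp_apply]
      change e (QuotientGroup.mk a) = 1 ↔ _
      rw [e.map_eq_one_iff, QuotientGroup.eq_one_iff]
    rw [h1]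
    exact hZ
  have spor : IsSporadicGroup X ∨ Lie.IsoTits X → Concl X := by
    intro h1
    by_cases hout : ∃ g, x = MulAut.conj g
    · obtain ⟨z, hz⟩ := hout
      obtain ⟨hz2, -, -⟩ := S.inner_mem hc hz
      have hK := S.comp_inner hz
      have eK : ↥(A.map (fixedSubgroup x).subtype) ≃* ↥A :=
        (A.equivMapOfInjective _ (fixedSubgroup x).subtype_injective).symm
      exact Or.inr (Or.inr (Or.inr (Or.inr (H300.SporIn.inner h1 hz2 hK (hD.congr eK.symm) (by
        rw [Nat.card_congr (Subgroup.centerCongr eK).toEquiv]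
        exact hZ)).1)))
    · exact Or.inl (spor_out S hZ e hD hout h1)
  rcases OddHalf.Known.classify hna hk with ⟨m, hm, ⟨f⟩⟩ | ⟨p, hp, hp2, h1⟩ | h1 | h1
  · left
    obtain ⟨n, k, hn, hk1, hmn, ⟨g⟩, -, hfour⟩ := AltComp.table hm f S.hxx S.hx1 S.comp
    have hn6 : n = 6 := by
      have hsn : IsSimpleGroup ↥(alternatingGroup (Fin n)) := alternatingGroup.isSimpleGroup (by simpa using hn)
      have hsA : IsSimpleGroup ↥A := g.isSimpleGroup
      have hcA : center ↥A = ⊥ := CTwoTab.center_eq_bot_of_simple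
        (SignalizersComponents.Components.quasisimple_not_isMulCommutative S.comp.2)
      have e1 : ↥A ≃* ↥(alternatingGroup (Fin 6)) :=
        ((QuotientGroup.quotientMulEquivOfEq hcA).trans QuotientGroup.quotientBot).symm.trans e
      exact AltRow.deg_eq hn (by norm_num) (g.symm.trans e1)
    by_cases hk2 : 2 ≤ k
    · exfalso
      obtain ⟨a, b, ha, hb, ha2, hb2, hab, hcab⟩ := hfour hk2
      exact hab (S.cyc2 ha hb ha2 hb2 hcab)
    · have hm8 : m = 8 := by omega
      subst hm8
      exact GH.Rank.of_injective H300.RankAlt.rank_eight f.toMonoidHom f.injective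
  · left
    have : Fact p.Prime := ⟨hp⟩
    obtain ⟨F, i1, i2, hF⟩ : ∃ (F : Type) (_ : Field F) (_ : Fintype F), Fintype.card F = 9 := by
      have : Fact (Nat.Prime 3) := ⟨Nat.prime_three⟩
      refine ⟨GaloisField 3 2, inferInstance, Fintype.ofFinite _, ?_⟩
      rw [← Nat.card_eq_fintype_card, GaloisField.card 3 2 (by norm_num)]
      norm_num
    obtain ⟨g⟩ := S0254.result hF
    refine H286.KillL.main_cyclic hp2 (hodd p hp hp2 h1) S.norm S.comp.2 (e.trans g.symm) S.cyc (fun y => ?_) S.hx1 hZ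
      (H286.KillL.dih_l2 (Or.inr (by rw [hF])) hp2)
    exact congrArg (fun f : MulAut X => f y) S.hxx
  · rcases h1 with h1 | h1
    · rcases H300.D8Even.row_lie hna h1 x (by rw [pow_two, S.hxx]) S.hx1 A S.comp hD with
        h2 | ⟨-, ⟨F, i1, i2, hF, h2 | h2⟩ | ⟨F, i1, i2, hF, h2⟩⟩
      · exact Or.inl h2
      · exact Or.inr (Or.inl ⟨F, i1, i2, hF, h2⟩)
      · exact Or.inr (Or.inr (Or.inr (Or.inl ⟨F, i1, i2, hF, h2⟩)))
      · exact Or.inr (Or.inr (Or.inl ⟨F, i1, i2, hF, h2⟩))
    · exact spor (Or.inr h1)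
  · exact spor (Or.inl h1)

end row

end Cfsg.Agent.H284.SixRow97
end

-- part: H284/Main97
section
/-!
# S3097: assembly (helper284)
-/

set_option autoImplicit false
set_option linter.unusedSectionVars false

namespace Cfsg.Agent.H284.Main97

open Subgroup Cfsg
open Cfsg.Agent.H284.FStd Cfsg.Agent.H284.Sit97

universe u v

/-- the conclusion for a group `L` (the layer) -/
def Concl (L : Type u) [Group L] : Prop :=
  SectionalPRankLE 2 4 L ∨
    (∃ (F : Type) (_ : Field F) (_ : Fintype F), Fintype.card F = 9 ∧ Nonempty (L ≃* PSU 4 F 3)) ∨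
    (∃ (F : Type) (_ : Field F) (_ : Fintype F), Fintype.card F = 3 ∧
      (Nonempty (L ≃* PSp 2 F) ∨ Nonempty (L ≃* Matrix.ProjectiveSpecialLinearGroup (Fin 4) F))) ∨
    (∃ (F : Type) (_ : Field F) (_ : Fintype F), Fintype.card F = 4 ∧ Nonempty (L ≃* PSp 2 F)) ∨
    (∃ (F : Type) (_ : Field F) (_ : Fintype F), Fintype.card F = 2 ∧
      Nonempty (L ≃* Matrix.ProjectiveSpecialLinearGroup (Fin 5) F)) ∨
    (∃ (F : Type) (_ : Field F) (_ : Fintype F), Fintype.card F = 4 ∧ Nonempty (L ≃* PSU 5 F 2)) ∨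
    Spor.IsoHS L ∨ Spor.IsoHe L

theorem concl_of_six {L : Type u} [Group L] (h : SixRow97.Concl L) : Concl L := by
  rcases h with h | h | h | h | h
  · exact Or.inl h
  · exact Or.inr (Or.inr (Or.inr (Or.inl h)))
  · exact Or.inr (Or.inr (Or.inr (Or.inr (Or.inl h))))
  · exact Or.inr (Or.inr (Or.inr (Or.inr (Or.inr (Or.inl h)))))
  · exact Or.inr (Or.inr (Or.inr (Or.inr (Or.inr (Or.inr (Or.inl h))))))

/-- `A/O(A) ≅ A_n` : `O(A) = Z(A)` -/
theorem core_eq {A : Type u} [Group A] [Finite A] (hq : IsQuasisimple A) {n : ℕ} (hn : 5 ≤ n)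
    (e : A ⧸ oddCore A ≃* ↥(alternatingGroup (Fin n))) :
    Odd (Nat.card ↥(center A)) ∧ Nonempty (A ⧸ center A ≃* ↥(alternatingGroup (Fin n))) := by
  have hOn : (oddCore A).Normal := Lib.Cores.pPrimeCore_normal 2
  have hs : IsSimpleGroup ↥(alternatingGroup (Fin n)) := alternatingGroup.isSimpleGroup (by simpa using hn)
  have hna : ¬ IsMulCommutative ↥(alternatingGroup (Fin n)) := CTwoTab.na_alt hn (MulEquiv.refl _)
  have hodd : Odd (Nat.card ↥(oddCore A)) := Nat.coprime_two_right.1 (Lib.Cores.pPrimeCore_coprime 2)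
  have hcen : center ↥(alternatingGroup (Fin n)) = ⊥ := CTwoTab.center_eq_bot_of_simple hna
  have hle : center A ≤ oddCore A := by
    intro a ha
    have h1 : e (QuotientGroup.mk a) ∈ center ↥(alternatingGroup (Fin n)) := by
      rw [mem_center_iff]
      intro g
      obtain ⟨q, rfl⟩ := e.surjective g
      obtain ⟨b, rfl⟩ := QuotientGroup.mk_surjective q
      rw [← map_mul, ← map_mul, ← QuotientGroup.mk_mul, ← QuotientGroup.mk_mul, (mem_center_iff.1 ha) b]
    rw [hcen, mem_bot, e.map_eq_one_iff, QuotientGroup.eq_one_iff] at h1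
    exact h1
  have hge : oddCore A ≤ center A := by
    apply SignalizersComponents.QsBasic.normal_le_center_of_ne_top hq
    intro htop
    have h2 : Subsingleton (A ⧸ oddCore A) := by
      rw [htop]
      exact QuotientGroup.subsingleton_quotient_top
    have h3 : Subsingleton ↥(alternatingGroup (Fin n)) := e.symm.injective.subsingleton
    exact not_nontrivial _ hs.toNontrivial
  have heq : oddCore A = center A := le_antisymm hge hle
  refine ⟨by rw [← heq]; exact hodd, ⟨(QuotientGroup.quotientMulEquivOfEq heq).symm.trans e⟩⟩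

/-- the quotient of isomorphic groups by the centres -/
theorem quot_congr {A : Type u} {B : Type v} [Group A] [Group B] (e : A ≃* B) : Nonempty (A ⧸ center A ≃* B ⧸ center B) :=
  ⟨QuotientGroup.congr (center A) (center B) e (by
    ext b
    constructor
    · rintro ⟨a, ha, rfl⟩
      rw [mem_center_iff]
      intro g
      obtain ⟨c, rfl⟩ := e.surjective g
      change e c * e a = e a * e c
      rw [← map_mul, (mem_center_iff.1 ha) c, map_mul]
    · intro hb
      refine ⟨e.symm b, ?_, e.apply_symm_apply b⟩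
      rw [SetLike.mem_coe, mem_center_iff]
      intro g
      apply e.injective
      rw [map_mul, map_mul, e.apply_symm_apply]
      exact (mem_center_iff.1 hb) (e g))⟩

section

variable {G : Type u} [Group G] [Finite G]

/-- **The simple case.** -/
theorem simple_case {A : Subgroup G} (hA : IsStandardSubgroup A)
    (hR : ∀ R : Sylow 2 ↥(centralizer (A : Set G)), IsCyclic ↥(R : Subgroup ↥(centralizer (A : Set G))))
    {n : ℕ} (hn : n = 5 ∨ n = 6 ∨ n = 7) (e : ↥A ⧸ oddCore ↥A ≃* ↥(alternatingGroup (Fin n)))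
    (hAX : A ≤ layer G) (hs : IsSimpleGroup ↥(layer G)) (hna : ¬ IsMulCommutative ↥(layer G))
    (hF : generalizedFittingSubgroup G = layer G) (hk : IsKnownSimple' ↥(layer G))
    (hodd : ∀ p : ℕ, p.Prime → p ≠ 2 → IsLieTypeChar p ↥(layer G) → H286.Row.Row p ↥(layer G))
    (h7 : ∀ (α : MulAut ↥(layer G)) (B : Subgroup ↥(layer G)), H295.A7.Std α B →
      (∃ m, 5 ≤ m ∧ Nonempty (↥(layer G) ≃* ↥(alternatingGroup (Fin m)))) ∨ Spor.IsoHe ↥(layer G)) :
    Concl ↥(layer G) := by
  have hln : (layer G).Normal := SignalizersComponents.Components.layer_normal G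
  obtain ⟨-, hc, t, htA, ht⟩ := fstd (by rw [hF]; exact hs) (by rw [hF]; exact hna) hA
  rw [hF] at hc
  have S := sit_of (X := layer G) hc hA hAX ht htA hR
  have hn5 : 5 ≤ n := by omega
  obtain ⟨hZ, ⟨eZ⟩⟩ := core_eq hA.1 hn5 e
  have eB : ↥(BB (layer G) A t) ≃* ↥A := BBequiv hAX htA
  have hZB : Odd (Nat.card ↥(center ↥(BB (layer G) A t))) := by
    rw [Nat.card_congr (Subgroup.centerCongr eB).toEquiv]
    exact hZ
  obtain ⟨eq⟩ := quot_congr eB
  rcases hn with rfl | rfl | rfl
  · left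
    have hcA : center ↥A = ⊥ := OddA5.odd_a5 hA.1.1.commutator_eq_top eZ hZ
    have eA : ↥A ≃* ↥(alternatingGroup (Fin 5)) :=
      ((QuotientGroup.quotientMulEquivOfEq hcA).trans QuotientGroup.quotientBot).symm.trans eZ
    exact FiveRow.row S (eB.trans eA) hna hk hodd
  · exact concl_of_six (SixRow97.row S hZB (eq.trans eZ) hna hk hodd)
  · have hstd := H295.A7.std_of (X := layer G) hA hc hAX ht htA ⟨eZ⟩
    rcases h7 _ _ hstd with ⟨m, hm, ⟨f⟩⟩ | h
    · left
      obtain ⟨n', k, hn', hk1, hmn, ⟨g⟩, -, hfour⟩ := AltComp.table hm f S.hxx S.hx1 S.comp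
      have hn7 : n' = 7 := by
        have hsn : IsSimpleGroup ↥(alternatingGroup (Fin n')) := alternatingGroup.isSimpleGroup (by simpa using hn')
        have hsA : IsSimpleGroup ↥(BB (layer G) A t) := g.isSimpleGroup
        have hcA : center ↥(BB (layer G) A t) = ⊥ := CTwoTab.center_eq_bot_of_simple
          (SignalizersComponents.Components.quasisimple_not_isMulCommutative S.comp.2)
        have e1 : ↥(BB (layer G) A t) ≃* ↥(alternatingGroup (Fin 7)) :=
          ((QuotientGroup.quotientMulEquivOfEq hcA).trans QuotientGroup.quotientBot).symm.trans (eq.trans eZ)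
        exact AltRow.deg_eq hn' (by norm_num) (g.symm.trans e1)
      by_cases hk2 : 2 ≤ k
      · exfalso
        obtain ⟨a, b, ha, hb, ha2, hb2, hab, hcab⟩ := hfour hk2
        exact hab (S.cyc2 ha hb ha2 hb2 hcab)
      · have hm9 : m = 9 := by omega
        subst hm9
        exact GH.Rank.of_injective AltRow.rank_nine f.toMonoidHom f.injective
    · exact Or.inr (Or.inr (Or.inr (Or.inr (Or.inr (Or.inr (Or.inr h))))))

/-- **S3097** -/
theorem main {A : Subgroup G} (hO : oddCore G = ⊥) (hA : IsStandardSubgroup A) (hnA : ¬ A.Normal)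
    (hR : ∀ R : Sylow 2 ↥(centralizer (A : Set G)), IsCyclic ↥(R : Subgroup ↥(centralizer (A : Set G))))
    {n : ℕ} (hn : n = 5 ∨ n = 6 ∨ n = 7) (hAX : Nonempty (↥A ⧸ oddCore ↥A ≃* ↥(alternatingGroup (Fin n))))
    (hk : ∀ (X : Type u) [Group X] [Finite X] [IsSimpleGroup X], IsKnownSimple' X)
    (hodd : ∀ (X : Type u) [Group X] [Finite X] [IsSimpleGroup X] (p : ℕ), p.Prime → p ≠ 2 → IsLieTypeChar p X →
      H286.Row.Row p X)
    (h7 : ∀ (X : Type u) [Group X] [Finite X] [IsSimpleGroup X], ¬ IsMulCommutative X → ∀ (α : MulAut X) (B : Subgroup X),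
      H295.A7.Std α B → (∃ m, 5 ≤ m ∧ Nonempty (X ≃* ↥(alternatingGroup (Fin m)))) ∨ Spor.IsoHe X) :
    Nonempty (↥(layer G) ≃* ↥A × ↥A) ∨ Concl ↥(layer G) := by
  obtain ⟨e⟩ := hAX
  rcases Red97.red hO hA hnA with h | ⟨h1, h2, h3, h4⟩
  · exact Or.inl h
  · exact Or.inr (simple_case hA hR hn e h1 h2 h3 h4 (hk _) (hodd _) (h7 _ h3))

end

end Cfsg.Agent.H284.Main97
end
end
end
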